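import Cfsg.Agent.Lib.ShultGross.TwoPower
import Cfsg.Agent.Lib.HallHigman.Nilpotent
import Mathlib

/-!
An operator of two-power order and small degree, irreducible together with a class-two group, in
characteristic two.
-/

set_option autoImplicit false
set_option linter.style.haveILetI false

namespace CfsgLib.GrossTwo

open CfsgLib.Twisted CfsgLib.ShultGross

variable {K : Type*} [Field K] {W : Type*} [AddCommGroup W] [Module K W]
variable {Q : Type*} [Group Q]

theorem two_power_bound_nil [IsAlgClosed K] [FiniteDimensional K W] [Nontrivial W] [Fintype Q]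
    {a : Q →* Module.End K W} (S : Setting a) {q : ℕ} [hq : Fact q.Prime] (hq2 : q ≠ 2)
    (hQ : Nat.card (commutator Q) = q) (T : Module.End K W) (σ : MulAut Q) {b : ℕ}
    (hσ : σ ^ 2 ^ b = 1)
    (hfree : ∀ i : ℕ, 0 < i → i < 2 ^ b → ∀ u : Q, u⁻¹ * (σ ^ i) u ∈ Subgroup.center Q →
      u ∈ Subgroup.center Q)
    (hT : T ^ 2 ^ b = 1) (hconj : ∀ u, T * a u = a (σ u) * T)
    (hnil : (T - 1) ^ (2 ^ b - 1) = 0)
    (hirr : ∀ U : Submodule K W, (∀ u, ∀ w ∈ U, a u w ∈ U) → (∀ w ∈ U, T w ∈ U) → U = ⊥ ∨ U = ⊤) :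
    q + 1 = 2 ^ b ∧ 2 ≤ b ∧ Nat.card (Q ⧸ Subgroup.center Q) = q ^ 2 := by
  obtain ⟨n, hn, hN⟩ := exists_index_center S.cls hQ
  obtain ⟨O, hO, hC⟩ := finrank_centEnd_le_irr S T hirr σ (Nat.two_pow_pos b) hσ hfree hT hconj
  obtain ⟨hdF, hd2⟩ := CfsgLib.HallHigman.finrank_commutant_bound (T - 1) _ hnil
  have heq : CfsgLib.HallHigman.commutant (T - 1) = centEnd T := by
    ext f
    show f * (T - 1) = (T - 1) * f ↔ T * f = f * T
    rw [mul_sub, sub_mul, mul_one, one_mul, sub_left_inj]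
    exact eq_comm
  rw [heq] at hdF hd2
  obtain ⟨hn1, hqb, hb⟩ := two_power_arith hq.out hq2 hn Module.finrank_pos (hN ▸ hO)
    (hN ▸ finrank_end_eq S) (by rw [← pow_two, mul_comm]; exact hd2) hC hdF
  exact ⟨hqb, hb, by rw [hN, hn1, mul_one]⟩

end CfsgLib.GrossTwo
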