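import Mathlib

/-!
A symplectic space over a field of odd prime order with an involution whose inverted part is a plane:
powers of a product with a group of exponent four modulo elementary commute with the involution.
-/

set_option autoImplicit false
set_option linter.style.haveILetI false
open scoped commutatorElement

namespace CfsgLib.GrossTwo

/-- An alternating nondegenerate form with values in a field. -/
structure Form (Y : Type*) [CommGroup Y] (K : Type*) [Field K] where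
  ψ : Y → Y → K
  mul_left : ∀ u v w, ψ (u * v) w = ψ u w * ψ v w
  symm : ∀ u v, ψ v u = (ψ u v)⁻¹
  self : ∀ u, ψ u u = 1
  one_left : ∀ v, ψ 1 v = 1
  nondeg : ∀ v, (∀ w, ψ v w = 1) → v = 1

variable {Y : Type*} [CommGroup Y] {K : Type*} [Field K]

namespace Form

variable (F : Form Y K)

theorem pow_left (u v : Y) : ∀ k : ℕ, F.ψ (u ^ k) v = F.ψ u v ^ k
  | 0 => by simpa using F.one_left v
  | k + 1 => by rw [pow_succ, F.mul_left, pow_left u v k, pow_succ]

theorem mul_right (u v w : Y) : F.ψ u (v * w) = F.ψ u v * F.ψ u w := by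
  rw [F.symm (v * w) u, F.mul_left, mul_inv, ← F.symm, ← F.symm]

theorem pow_right (u v : Y) (k : ℕ) : F.ψ u (v ^ k) = F.ψ u v ^ k := by
  rw [F.symm (v ^ k) u, F.pow_left, ← inv_pow, ← F.symm]

/-- The automorphisms preserving the form. -/
def iso : Subgroup (MulAut Y) where
  carrier := {g | ∀ u v, F.ψ (g u) (g v) = F.ψ u v}
  one_mem' := fun u v => rfl
  mul_mem' := fun {a b} ha hb u v => by
    rw [MulAut.mul_apply, MulAut.mul_apply, ha, hb]
  inv_mem' := fun {a} ha u v => by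
    conv_rhs => rw [← MulAut.apply_inv_self _ a u, ← MulAut.apply_inv_self _ a v]
    exact (ha _ _).symm

end Form

/-- The elements inverted by an automorphism. -/
def invPart (z : MulAut Y) : Subgroup Y where
  carrier := {v | z v = v⁻¹}
  one_mem' := by simp
  mul_mem' := fun {a b} (ha : z a = a⁻¹) (hb : z b = b⁻¹) => show z (a * b) = (a * b)⁻¹ by
    rw [map_mul, ha, hb, mul_inv]
  inv_mem' := fun {a} (ha : z a = a⁻¹) => show z a⁻¹ = a⁻¹⁻¹ by rw [map_inv, ha]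

theorem mem_invPart {z : MulAut Y} {v : Y} : v ∈ invPart z ↔ z v = v⁻¹ := Iff.rfl

variable {t : ℕ} [ht : Fact t.Prime]

theorem eq_one_of_inv_eq_self (ht2 : t ≠ 2) (hexp : ∀ v : Y, v ^ t = 1) {v : Y} (h : v⁻¹ = v) :
    v = 1 := by
  have h2 : v ^ 2 = 1 := by
    rw [pow_two]
    nth_rw 1 [← h]
    exact inv_mul_cancel v
  have h3 := pow_gcd_eq_one.2 ⟨h2, hexp v⟩
  rwa [((Nat.coprime_primes Nat.prime_two ht.out).2 (Ne.symm ht2)).gcd_eq_one, pow_one] at h3

namespace Form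

variable (F : Form Y K) {z : MulAut Y}

include ht in
theorem ne_zero (hexp : ∀ v : Y, v ^ t = 1) (u v : Y) : F.ψ u v ≠ 0 := fun h => by
  have h1 := F.pow_left u v t
  rw [hexp, F.one_left, h, zero_pow ht.out.ne_zero] at h1
  exact one_ne_zero h1

theorem fixed_orth (ht2 : t ≠ 2) (hexp : ∀ v : Y, v ^ t = 1) (hz : z ∈ F.iso) {f u : Y}
    (hf : z f = f) (hu : z u = u⁻¹) : F.ψ f u = 1 := by
  have h1 := hz f u
  rw [hf, hu] at h1
  have hinv : F.ψ f u⁻¹ * F.ψ f u = 1 := by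
    rw [← F.mul_right, inv_mul_cancel, F.symm 1 f, F.one_left, inv_one]
  rw [h1] at hinv
  have h2 : F.ψ f u ^ t = 1 := by rw [← F.pow_left, hexp, F.one_left]
  have h3 := pow_gcd_eq_one.2 ⟨(pow_two _).trans hinv, h2⟩
  rwa [((Nat.coprime_primes Nat.prime_two ht.out).2 (Ne.symm ht2)).gcd_eq_one, pow_one] at h3

include ht in
omit F in
theorem decomp (hexp : ∀ v : Y, v ^ t = 1) (ht2 : t ≠ 2) (hzz : ∀ v, z (z v) = v) (v : Y) :
    ∃ f u, z f = f ∧ z u = u⁻¹ ∧ v = f * u := by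
  obtain ⟨w, hw⟩ : ∃ w : Y, w * w = v := by
    obtain ⟨j, hj⟩ := ht.out.odd_of_ne_two ht2
    refine ⟨v ^ (j + 1), ?_⟩
    have h1 := hexp v
    rw [hj] at h1
    rw [← pow_add, show j + 1 + (j + 1) = 2 * j + 1 + 1 by omega, pow_succ, h1, one_mul]
  refine ⟨w * z w, w * (z w)⁻¹, ?_, ?_, ?_⟩
  · rw [map_mul, hzz, mul_comm]
  · rw [map_mul, map_inv, hzz, mul_inv, inv_inv, mul_comm]
  · rw [show w * z w * (w * (z w)⁻¹) = w * w * (z w * (z w)⁻¹) by ac_rfl, mul_inv_cancel, mul_one, hw]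

theorem fixed_of_orth (ht2 : t ≠ 2) (hexp : ∀ v : Y, v ^ t = 1) (hzz : ∀ v, z (z v) = v)
    (hz : z ∈ F.iso) {v : Y} (h : ∀ u, z u = u⁻¹ → F.ψ v u = 1) : z v = v := by
  obtain ⟨f, u, hf, hu, rfl⟩ := decomp hexp ht2 hzz v
  suffices hu1 : u = 1 by rw [hu1, mul_one]; exact hf
  refine F.nondeg u fun w => ?_
  obtain ⟨f', u', hf', hu', rfl⟩ := decomp hexp ht2 hzz w
  have h1 := h u' hu'
  rw [F.mul_left, F.fixed_orth ht2 hexp hz hf hu', one_mul] at h1
  rw [F.mul_right, h1, F.symm f' u, F.fixed_orth ht2 hexp hz hf' hu, inv_one, one_mul]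

/-- An isometry preserving the inverted part commutes with the involution. -/
theorem commute_of_invPart [Finite Y] (ht2 : t ≠ 2) (hexp : ∀ v : Y, v ^ t = 1)
    (hzz : ∀ v, z (z v) = v) (hz : z ∈ F.iso) {g : MulAut Y} (hg : g ∈ F.iso)
    (hgU : ∀ u, z u = u⁻¹ → z (g u) = (g u)⁻¹) : Commute z g := by
  classical
  haveI : Fintype Y := Fintype.ofFinite Y
  have hbij : Function.Bijective (fun u : invPart z => (⟨g u, hgU u u.2⟩ : invPart z)) :=
    Finite.injective_iff_bijective.1 fun a b h => Subtype.ext (g.injective (congrArg Subtype.val h))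
  refine MulEquiv.ext fun v => ?_
  rw [MulAut.mul_apply, MulAut.mul_apply]
  obtain ⟨f, u, hf, hu, rfl⟩ := decomp hexp ht2 hzz v
  have hgf : z (g f) = g f := by
    refine F.fixed_of_orth ht2 hexp hzz hz fun u' hu' => ?_
    obtain ⟨⟨u'', hu''⟩, he⟩ := hbij.2 ⟨u', hu'⟩
    have he' : g u'' = u' := congrArg Subtype.val he
    rw [← he', hg, F.fixed_orth ht2 hexp hz hf hu'']
  rw [map_mul, map_mul, map_mul, map_mul, hf, hgf, hu, hgU u hu, map_inv]

/-- An involution commuting with `z` is a scalar on the plane. -/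
theorem sign_of_involution (ht2 : t ≠ 2) (hexp : ∀ v : Y, v ^ t = 1) (hzz : ∀ v, z (z v) = v)
    (hz : z ∈ F.iso) (hU : Nat.card (invPart z) = t ^ 2) {a : MulAut Y} (ha : a ∈ F.iso)
    (haa : ∀ v, a (a v) = v) (haz : Commute z a) :
    (∀ u, z u = u⁻¹ → a u = u) ∨ (∀ u, z u = u⁻¹ → a u = u⁻¹) := by
  classical
  haveI : Finite (invPart z) := Nat.finite_of_card_ne_zero (by rw [hU]; exact pow_ne_zero _ ht.out.ne_zero)
  have hza : ∀ v, z (a v) = a (z v) := fun v => by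
    rw [← MulAut.mul_apply, haz.eq, MulAut.mul_apply]
  have horth : ∀ p m, a p = p → a m = m⁻¹ → F.ψ p m = 1 := fun p m hp hm =>
    F.fixed_orth ht2 hexp ha hp hm
  have hsplit : ∀ u, z u = u⁻¹ → ∃ p m, z p = p⁻¹ ∧ z m = m⁻¹ ∧ a p = p ∧ a m = m⁻¹ ∧ u = p * m := by
    intro u hu
    obtain ⟨p, m, hp, hm, hpm⟩ := decomp hexp ht2 haa u
    have h1 : z p * z m = p⁻¹ * m⁻¹ := by rw [← map_mul, ← hpm, hu, hpm, mul_inv]
    have h2 : z p * (z m)⁻¹ = p⁻¹ * m := by
      have := congrArg a h1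
      rw [map_mul, map_mul, ← hza, ← hza, hp, hm, map_inv, map_inv, map_inv, hp, hm, inv_inv] at this
      exact this
    have h3 : (z p * p) * (z p * p) = 1 := by
      have h4 : z p * z m * (z p * (z m)⁻¹) = p⁻¹ * m⁻¹ * (p⁻¹ * m) := by rw [h1, h2]
      rw [show z p * z m * (z p * (z m)⁻¹) = z p * z p * (z m * (z m)⁻¹) by ac_rfl,
        show p⁻¹ * m⁻¹ * (p⁻¹ * m) = p⁻¹ * p⁻¹ * (m⁻¹ * m) by ac_rfl, mul_inv_cancel, inv_mul_cancel,
        mul_one, mul_one] at h4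
      rw [show z p * p * (z p * p) = z p * z p * (p * p) by ac_rfl, h4,
        show p⁻¹ * p⁻¹ * (p * p) = (p⁻¹ * p) * (p⁻¹ * p) by ac_rfl, inv_mul_cancel, one_mul]
    have hzp : z p = p⁻¹ :=
      eq_inv_of_mul_eq_one_left (eq_one_of_inv_eq_self ht2 hexp (inv_eq_of_mul_eq_one_right h3))
    refine ⟨p, m, hzp, ?_, hp, hm, hpm⟩
    rw [hzp] at h1
    exact mul_left_cancel h1
  by_contra hno
  push Not at hno
  obtain ⟨⟨u₁, hu₁, hu₁a⟩, ⟨u₂, hu₂, hu₂a⟩⟩ := hno
  obtain ⟨p₁, m, hp₁, hm, hap₁, ham, rfl⟩ := hsplit u₁ hu₁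
  obtain ⟨p, m₂, hp, hm₂, hap, ham₂, rfl⟩ := hsplit u₂ hu₂
  have hp1 : p ≠ 1 := fun h => hu₂a (by rw [h, one_mul, ham₂])
  have hm1 : m ≠ 1 := fun h => hu₁a (by rw [h, mul_one, hap₁])
  obtain ⟨p', hp', hap', hpp'⟩ : ∃ p', z p' = p'⁻¹ ∧ a p' = p' ∧ F.ψ p p' ≠ 1 := by
    by_contra hall
    push Not at hall
    refine hp1 (F.nondeg p fun w => ?_)
    obtain ⟨f, u, hf, hu, rfl⟩ := decomp hexp ht2 hzz w
    obtain ⟨q, q', hq, -, haq, haq', rfl⟩ := hsplit u hu
    rw [F.mul_right, F.symm f p, F.fixed_orth ht2 hexp hz hf hp, inv_one, one_mul, F.mul_right,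
      hall q hq haq, horth p q' hap haq', one_mul]
  let Up : Subgroup Y :=
    { carrier := {v | z v = v⁻¹ ∧ a v = v}
      one_mem' := by simp
      mul_mem' := fun {x y} hx hy => ⟨by rw [map_mul, hx.1, hy.1, mul_inv], by rw [map_mul, hx.2, hy.2]⟩
      inv_mem' := fun {x} hx => ⟨by rw [map_inv, hx.1], by rw [map_inv, hx.2]⟩ }
  have hle : Up ≤ invPart z := fun x hx => hx.1
  haveI : Finite Up := Finite.of_injective _ (Subgroup.inclusion_injective hle)
  have hlt : Nat.card Up ≠ t ^ 2 := by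
    intro h
    have heq := Subgroup.eq_of_le_of_card_ge hle (by rw [hU, h])
    have h1 : m ∈ Up := heq ▸ (hm : m ∈ invPart z)
    exact hm1 (eq_one_of_inv_eq_self ht2 hexp (ham.symm.trans h1.2))
  obtain ⟨i, hi, hcard⟩ := (Nat.dvd_prime_pow ht.out).1 (hU ▸ Subgroup.card_dvd_of_le hle)
  have hord : orderOf p = t := orderOf_eq_prime (hexp p) hp1
  have hzle : Subgroup.zpowers p ≤ Up := Subgroup.zpowers_le.2 ⟨hp, hap⟩
  have hi1 : i ≤ 1 := by
    by_contra h
    exact hlt (by rw [hcard, show i = 2 by omega])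
  have heq : Subgroup.zpowers p = Up := Subgroup.eq_of_le_of_card_ge hzle (by
    rw [Nat.card_zpowers, hord, hcard]
    calc t ^ i ≤ t ^ 1 := Nat.pow_le_pow_right ht.out.pos hi1
      _ = t := pow_one t)
  have hp'mem : p' ∈ Up := ⟨hp', hap'⟩
  rw [← heq, ← (IsOfFinOrder.mem_powers_iff_mem_zpowers (orderOf_pos_iff.1 (hord ▸ ht.out.pos)))] at hp'mem
  obtain ⟨k, rfl⟩ := hp'mem
  exact hpp' (by rw [F.pow_right, F.self, one_pow])

/-- The commutation. -/
theorem plane_comm [Finite Y] (ht2 : t ≠ 2) (hexp : ∀ v : Y, v ^ t = 1) {h : ℕ} (hh : 2 ≤ h)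
    {τ β₀ : MulAut Y} (hτ : τ ∈ F.iso) (hτh : τ ^ 2 ^ h = 1)
    (hU : Nat.card (invPart (τ ^ 2 ^ (h - 1))) = t ^ 2)
    (A E : Subgroup (MulAut Y)) (hE : E ≤ F.iso) (hAE : A ≤ E) (hA2 : ∀ a ∈ A, a * a = 1)
    (hAc : ∀ a ∈ A, ∀ g ∈ E, Commute a g) (hAz : ∀ a ∈ A, Commute a (τ ^ 2 ^ (h - 1)))
    (hE2 : ∀ g ∈ E, g * g ∈ A) (hEc : ∀ g ∈ E, ∀ g' ∈ E, ⁅g, g'⁆ ∈ A)
    (hτE : ∀ g ∈ E, τ * g * τ⁻¹ ∈ E) (hτA : ∀ a ∈ A, τ⁻¹ * a * τ ∈ A) (hβ₀ : β₀ ∈ E)
    (hord : (β₀ * τ) ^ 2 ^ h = 1) :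
    Commute (τ ^ 2 ^ (h - 1)) ((β₀ * τ) ^ 2 ^ (h - 2) * (τ ^ 2 ^ (h - 2))⁻¹) := by
  classical
  set z := τ ^ 2 ^ (h - 1) with hzdef
  set s := τ ^ 2 ^ (h - 2) with hsdef
  set β := (β₀ * τ) ^ 2 ^ (h - 2) * s⁻¹ with hβdef
  have hpp : ∀ (g : MulAut Y) (m : ℕ), g ^ 2 ^ (m + 1) = g ^ 2 ^ m * g ^ 2 ^ m := fun g m => by
    rw [pow_succ, mul_two, pow_add]
  have hss : s * s = z := by rw [hsdef, hzdef, ← hpp, show h - 2 + 1 = h - 1 by omega]
  have hzmul : z * z = 1 := by rw [hzdef, ← hpp, show h - 1 + 1 = h by omega, hτh]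
  have hzinv : z⁻¹ = z := inv_eq_of_mul_eq_one_right hzmul
  have hzz : ∀ v, z (z v) = v := fun v => by rw [← MulAut.mul_apply, hzmul, MulAut.one_apply]
  have hz : z ∈ F.iso := pow_mem hτ _
  have hτz : Commute z τ := Commute.pow_self τ _
  have hsz : Commute z s := Commute.pow_pow_self τ _ _
  have hU1 : ∃ u, z u = u⁻¹ ∧ u ≠ 1 := by
    by_contra hno
    push Not at hno
    have : invPart z = ⊥ := (Subgroup.eq_bot_iff_forall _).2 fun u hu => hno u hu
    rw [this, Subgroup.card_bot] at hU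
    exact (Nat.one_lt_pow two_ne_zero ht.out.one_lt).ne hU
  have hmemE : ∀ k : ℕ, (β₀ * τ) ^ k * (τ ^ k)⁻¹ ∈ E := by
    intro k
    induction k with
    | zero => simp [one_mem]
    | succ k ih =>
      have h1 : τ ^ k * β₀ * (τ ^ k)⁻¹ ∈ E := by
        clear ih
        induction k with
        | zero => simpa using hβ₀
        | succ k ih =>
          rw [pow_succ', mul_inv_rev, show τ * τ ^ k * β₀ * ((τ ^ k)⁻¹ * τ⁻¹) =
            τ * (τ ^ k * β₀ * (τ ^ k)⁻¹) * τ⁻¹ by group]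
          exact hτE _ ih
      rw [pow_succ, pow_succ, show (β₀ * τ) ^ k * (β₀ * τ) * (τ ^ k * τ)⁻¹ =
        (β₀ * τ) ^ k * (τ ^ k)⁻¹ * (τ ^ k * β₀ * (τ ^ k)⁻¹) by group]
      exact mul_mem ih h1
  have hβE : β ∈ E := hmemE _
  set y' := (β₀ * τ) ^ 2 ^ (h - 1) with hy'
  have hy'2 : y' * y' = 1 := by rw [hy', ← hpp, show h - 1 + 1 = h by omega, hord]
  set n := y' * z⁻¹ with hndef
  have hnE : n ∈ E := hmemE _
  have hy'n : y' = n * z := by rw [hndef, inv_mul_cancel_right]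
  have hznz : z * n * z = n⁻¹ := by
    rw [eq_inv_iff_mul_eq_one, ← hy'2, hy'n]
    calc z * n * z * n = z * (n * z * (n * z)) * z⁻¹ := by group
      _ = z * (y' * y') * z⁻¹ := by rw [hy'n]
      _ = 1 := by rw [hy'2, mul_one, mul_inv_cancel]
      _ = n * z * (n * z) := by rw [← hy'n, hy'2]
  have hβs : β * (s * β * s⁻¹) = n := by
    rw [hndef, hy', show h - 1 = h - 2 + 1 by omega, hpp, ← hss,
      show (β₀ * τ) ^ 2 ^ (h - 2) = β * s by rw [hβdef, inv_mul_cancel_right]]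
    group
  have hcz : ∀ {g : MulAut Y}, Commute z g → ∀ v, z (g v) = g (z v) := fun {g} hg v => by
    rw [← MulAut.mul_apply, hg.eq, MulAut.mul_apply]
  have hno : Commute z n → ∀ u, z u = u⁻¹ → z (n u) = n u → u = 1 := by
    intro hn u hu hfix
    rw [hcz hn, hu] at hfix
    exact eq_one_of_inv_eq_self ht2 hexp (n.injective hfix)
  have hsign : ∀ a ∈ A, (∀ u, z u = u⁻¹ → a u = u) ∨ (∀ u, z u = u⁻¹ → a u = u⁻¹) := fun a ha =>
    F.sign_of_involution ht2 hexp hzz hz hU (hE (hAE ha))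
      (fun v => by rw [← MulAut.mul_apply, hA2 a ha, MulAut.one_apply]) (hAz a ha).symm
  set a₀ := (n * n)⁻¹ with ha₀def
  have ha₀ : a₀ ∈ A := inv_mem (hE2 n hnE)
  have hn' : n⁻¹ = n * a₀ := by rw [ha₀def]; group
  have hzn : ∀ v, z (n v) = n (a₀ (z v)) := fun v => by
    calc z (n v) = (z * n * z) (z v) := by simp only [MulAut.mul_apply, hzz]
      _ = n (a₀ (z v)) := by rw [hznz, hn', MulAut.mul_apply]
  rcases hsign a₀ ha₀ with hp | hm
  · -- the plane is preserved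
    have hnz : Commute z n := F.commute_of_invPart ht2 hexp hzz hz (hE hnE) fun u hu => by
      rw [hzn, hu, map_inv, hp u hu, map_inv]
    have hn2 : ∀ v, n (n v) = v := fun v => by
      rw [← MulAut.mul_apply]
      have h1 : n * n = 1 := by
        have h2 := hy'2
        rw [hy'n, hnz.eq.symm.trans rfl] at h2
        calc n * n = n * z * z * n := by rw [mul_assoc n z z, hzmul, mul_one]
          _ = n * z * (z * n) := by group
          _ = z * n * (z * n) := by rw [← hnz.eq]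
          _ = 1 := h2
      rw [h1, MulAut.one_apply]
    have hβinv : s * β * s⁻¹ = β * ((β * β)⁻¹ * n) := by rw [← hβs]; group
    have hsu : ∀ u, z u = u⁻¹ → z (s u) = (s u)⁻¹ := fun u hu => by rw [hcz hsz, hu, map_inv]
    have hkey : ∀ u, z u = u⁻¹ → s (β u) = β ((β * β)⁻¹ (n (s u))) := by
      intro u hu
      rw [← MulAut.mul_apply _ n, ← MulAut.mul_apply, ← MulAut.mul_apply, ← MulAut.mul_apply]
      congr 1
      rw [show s * β = s * β * s⁻¹ * s by group, hβinv]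
      group
    have hzβ : ∀ u, z u = u⁻¹ → z (β u) = (β u)⁻¹ := by
      intro u hu
      have hεn := F.sign_of_involution ht2 hexp hzz hz hU (hE hnE) hn2 hnz
      have hε : (∀ w, z w = w⁻¹ → s (β w) = β (s w)) ∨ (∀ w, z w = w⁻¹ → s (β w) = (β (s w))⁻¹) := by
        rcases hsign _ (inv_mem (hE2 β hβE)) with h1 | h1 <;> rcases hεn with h2 | h2
        · exact Or.inl fun w hw => by rw [hkey w hw, h2 _ (hsu w hw), h1 _ (hsu w hw)]
        · exact Or.inr fun w hw => by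
            rw [hkey w hw, h2 _ (hsu w hw), map_inv, h1 _ (hsu w hw), map_inv]
        · exact Or.inr fun w hw => by rw [hkey w hw, h2 _ (hsu w hw), h1 _ (hsu w hw), map_inv]
        · exact Or.inl fun w hw => by
            rw [hkey w hw, h2 _ (hsu w hw), map_inv, h1 _ (hsu w hw), inv_inv]
      have hzss : ∀ v, z v = s (s v) := fun v => by rw [← MulAut.mul_apply, hss]
      rcases hε with hε | hε
      · rw [hzss, hε u hu, hε _ (hsu u hu), ← hzss, hu, map_inv]
      · rw [hzss, hε u hu, map_inv, hε _ (hsu u hu), inv_inv, ← hzss, hu, map_inv]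
    exact F.commute_of_invPart ht2 hexp hzz hz (hE hβE) hzβ
  · -- the plane is thrown into the fixed part
    exfalso
    obtain ⟨u₁, hu₁, hu₁1⟩ := hU1
    have hnU : ∀ u, z u = u⁻¹ → z (n u) = n u := fun u hu => by
      rw [hzn, hu, map_inv, hm u hu, inv_inv]
    have hnc : ¬ Commute z n := fun hn => hu₁1 (hno hn u₁ hu₁ (hnU u₁ hu₁))
    set n1 := τ * n * τ⁻¹ with hn1
    have hn1E : n1 ∈ E := hτE n hnE
    have hτu : ∀ u, z u = u⁻¹ → z (τ⁻¹ u) = (τ⁻¹ u)⁻¹ := fun u hu => by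
      rw [hcz hτz.inv_right, hu, map_inv]
    have hcU : Commute z (n⁻¹ * n1) := by
      refine F.commute_of_invPart ht2 hexp hzz hz (hE (mul_mem (inv_mem hnE) hn1E)) fun u hu => ?_
      have e1 : z * (n⁻¹ * n1) * z = n⁻¹ * n1 * ((n * n) * (τ * a₀ * τ⁻¹)) := by
        have h2 : z * n1 * z = τ * (n * a₀) * τ⁻¹ := by
          rw [← hn', ← hznz, hn1, show z * (τ * n * τ⁻¹) * z = z * τ * n * (τ⁻¹ * z) by group,
            hτz.eq, ← hτz.inv_right.eq]
          group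
        have h3 : z * n⁻¹ * z = n⁻¹ * (n * n) := by
          rw [show n⁻¹ * (n * n) = n by group, ← hznz, show z * (z * n * z) * z = z * z * n * (z * z) by group,
            hzmul, one_mul, mul_one]
        have h4 : Commute (n * n) n1 := hAc _ (hE2 n hnE) _ hn1E
        calc z * (n⁻¹ * n1) * z = z * n⁻¹ * z * (z * n1 * z) := by
              rw [show z * n⁻¹ * z * (z * n1 * z) = z * n⁻¹ * (z * z) * n1 * z by group, hzmul]
              group
          _ = n⁻¹ * ((n * n) * n1) * (τ * a₀ * τ⁻¹) := by rw [h2, h3, hn1]; group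
          _ = _ := by rw [h4.eq]; group
      have h5 : z ((n⁻¹ * n1) u) = (z * (n⁻¹ * n1) * z) (z u) := by
        simp only [MulAut.mul_apply, hzz]
      have h6 : (n * n * (τ * a₀ * τ⁻¹)) u⁻¹ = u⁻¹ := by
        rw [show n * n = a₀ by rw [← inv_eq_of_mul_eq_one_right (hA2 a₀ ha₀), ha₀def, inv_inv]]
        simp only [MulAut.mul_apply]
        rw [map_inv τ⁻¹, map_inv a₀ (τ⁻¹ u), hm _ (hτu u hu), inv_inv, MulAut.apply_inv_self, hm u hu]
      rw [h5, e1, hu, MulAut.mul_apply _ (n⁻¹ * n1), h6, map_inv]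
    set z₀ := β₀⁻¹ * z * β₀ with hz₀
    have hz₀z : Commute z z₀ := by
      have h1 : β₀ * τ * y' = y' * (β₀ * τ) := (Commute.self_pow (β₀ * τ) _).eq
      have h2 : n1 = β₀⁻¹ * n * z * β₀ * z := by
        rw [hy'n] at h1
        calc n1 = β₀⁻¹ * (β₀ * τ * (n * z)) * z⁻¹ * τ⁻¹ := by
              rw [hn1]
              group
          _ = β₀⁻¹ * (n * z * (β₀ * τ)) * z⁻¹ * τ⁻¹ := by rw [h1]
          _ = β₀⁻¹ * n * z * β₀ * (τ * (z⁻¹ * τ⁻¹)) := by group
          _ = _ := by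
            rw [show z⁻¹ * τ⁻¹ = τ⁻¹ * z⁻¹ from hτz.inv_inv.eq, mul_inv_cancel_left, hzinv]
      have h3 : z₀ = ⁅n⁻¹, β₀⁻¹⁆⁻¹ * (n⁻¹ * n1) * z⁻¹ := by
        rw [h2, hz₀, commutatorElement_def]
        group
      rw [h3]
      exact ((hAz _ (inv_mem (hEc _ (inv_mem hnE) _ (inv_mem hβ₀)))).symm.mul_right hcU).mul_right
        (Commute.inv_right (Commute.refl z))
    have hz₀z₀ : ∀ v, z₀ (z₀ v) = v := fun v => by
      rw [← MulAut.mul_apply, show z₀ * z₀ = β₀⁻¹ * (z * z) * β₀ by rw [hz₀]; group, hzmul, mul_one,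
        inv_mul_cancel, MulAut.one_apply]
    have hz₀iso : z₀ ∈ F.iso := mul_mem (mul_mem (inv_mem (hE hβ₀)) hz) (hE hβ₀)
    have hz₀app : ∀ v, z₀ v = β₀⁻¹ (z (β₀ v)) := fun v => rfl
    have hfin : (∀ u, z u = u⁻¹ → z ((β₀ * τ) ((β₀ * τ) u)) = ((β₀ * τ) ((β₀ * τ) u))⁻¹) → False := by
      intro hfix
      have hc2 : Commute z ((β₀ * τ) ^ 2) := by
        refine F.commute_of_invPart ht2 hexp hzz hz (pow_mem (mul_mem (hE hβ₀) hτ) 2) fun u hu => ?_
        rw [pow_two, MulAut.mul_apply]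
        exact hfix u hu
      have hc3 : Commute z y' := by
        rw [hy', show 2 ^ (h - 1) = 2 * 2 ^ (h - 2) by rw [← pow_succ']; congr 1; omega, pow_mul]
        exact hc2.pow_right _
      exact hnc (by rw [hndef]; exact hc3.mul_right (Commute.inv_right (Commute.refl z)))
    rcases F.sign_of_involution ht2 hexp hzz hz hU hz₀iso hz₀z₀ hz₀z with hz0p | hz0m
    swap
    · refine hfin fun u hu => ?_
      have hβU : ∀ w, z w = w⁻¹ → z (β₀ w) = (β₀ w)⁻¹ := fun w hw => by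
        have h1 := congrArg β₀ (hz0m w hw)
        rwa [hz₀app, MulAut.apply_inv_self, map_inv] at h1
      have hτU : ∀ w, z w = w⁻¹ → z (τ w) = (τ w)⁻¹ := fun w hw => by rw [hcz hτz, hw, map_inv]
      simp only [MulAut.mul_apply]
      exact hβU _ (hτU _ (hβU _ (hτU u hu)))
    -- the second plane
    let P : Y → Prop := fun v => z v = v ∧ ∀ a ∈ A, ((∀ u, z u = u⁻¹ → a u = u) → a v = v) ∧
      ((∀ u, z u = u⁻¹ → a u = u⁻¹) → a v = v⁻¹)
    have hU0 : ∀ v, z (β₀ v) = (β₀ v)⁻¹ → P v := by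
      intro v hv
      have hv0 : z₀ v = v⁻¹ := by rw [hz₀app, hv, map_inv, MulAut.inv_apply_self]
      constructor
      · have hw : z (v * (z v)⁻¹) = (v * (z v)⁻¹)⁻¹ := by
          rw [map_mul, map_inv, hzz, mul_inv, inv_inv, mul_comm]
        have h1 : z₀ (v * (z v)⁻¹) = (v * (z v)⁻¹)⁻¹ := by
          rw [map_mul, map_inv, ← hcz hz₀z, hv0, map_inv, mul_inv]
        rw [hz0p _ hw] at h1
        exact (mul_inv_eq_one.1 (eq_one_of_inv_eq_self ht2 hexp h1.symm)).symm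
      · intro a ha
        have hc : a (β₀ v) = β₀ (a v) := by
          rw [← MulAut.mul_apply, (hAc a ha β₀ hβ₀).eq, MulAut.mul_apply]
        constructor
        · intro h1
          exact β₀.injective (hc.symm.trans (h1 _ hv))
        · intro h1
          exact β₀.injective ((hc.symm.trans (h1 _ hv)).trans (map_inv β₀ v).symm)
    have hnW : ∀ v, P v → z (n v) = (n v)⁻¹ := fun v hv => by
      rw [hzn, hv.1, (hv.2 a₀ ha₀).2 hm, map_inv]
    have hW0 : ∀ v, P v → z (β₀ v) = (β₀ v)⁻¹ := by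
      let f : invPart z → {v // P v} := fun u => ⟨β₀⁻¹ u, hU0 _ (by rw [MulAut.apply_inv_self]; exact u.2)⟩
      let g : {v // P v} → invPart z := fun v => ⟨n v, hnW v v.2⟩
      have hg : Function.Injective g := fun a b hab => Subtype.ext (n.injective (congrArg Subtype.val hab))
      have hf : Function.Injective f := fun a b hab =>
        Subtype.ext (β₀⁻¹.injective (congrArg Subtype.val hab))
      have hfbij : Function.Bijective f := by
        refine hf.bijective_of_nat_card_le ?_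
        exact Nat.card_le_card_of_injective g hg
      intro v hv
      obtain ⟨u, hu⟩ := hfbij.2 ⟨v, hv⟩
      have hu' : β₀⁻¹ (u : Y) = v := congrArg Subtype.val hu
      rw [← hu', MulAut.apply_inv_self]
      exact u.2
    have hWτ : ∀ v, P v → P (τ v) := by
      intro v hv
      refine ⟨by rw [hcz hτz, hv.1], fun a ha => ?_⟩
      have hc : a (τ v) = τ ((τ⁻¹ * a * τ) v) := by
        simp only [MulAut.mul_apply, MulAut.apply_inv_self]
      constructor
      · intro h1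
        rw [hc, (hv.2 _ (hτA a ha)).1]
        intro u hu
        rw [MulAut.mul_apply, MulAut.mul_apply, h1 (τ u) (by rw [hcz hτz, hu, map_inv]),
          MulAut.inv_apply_self]
      · intro h1
        rw [hc, (hv.2 _ (hτA a ha)).2, map_inv]
        intro u hu
        rw [MulAut.mul_apply, MulAut.mul_apply, h1 (τ u) (by rw [hcz hτz, hu, map_inv]), map_inv,
          MulAut.inv_apply_self]
    refine hfin fun u hu => ?_
    simp only [MulAut.mul_apply]
    have hτu' : z (τ u) = (τ u)⁻¹ := by rw [hcz hτz, hu, map_inv]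
    refine hW0 _ (hWτ _ (hU0 _ ?_))
    have ha : β₀ * β₀ ∈ A := hE2 β₀ hβ₀
    rw [← MulAut.mul_apply _ β₀ β₀]
    rcases hsign _ ha with h1 | h1
    · rw [h1 _ hτu', hτu']
    · rw [h1 _ hτu', map_inv, hτu']

end Form

end CfsgLib.GrossTwo
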