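import Cfsg.Agent.Lib.ShultGross.Eigen
import Cfsg.Agent.Lib.GrossTwo.Bound
import Cfsg.Agent.Lib.GrossTwo.PlaneComm
import Cfsg.Agent.Lib.HallHigman.TheoremB
import Mathlib

/-!
The eigenspace of the centre of a critical subgroup in characteristic two.
-/

set_option autoImplicit false
set_option linter.style.haveILetI false
open scoped commutatorElement

namespace CfsgLib.GrossTwo

open CfsgLib.ShultGross

universe u v w

set_option maxHeartbeats 1600000 in
/-- A pairing on a critical subgroup seen by a moved element, with the plane alternative. -/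
theorem exists_pairing {t N : ℕ} [ht : Fact t.Prime] (ht2 : t ≠ 2) {T : Type u} [Group T] [Finite T]
    (hT : IsPGroup t T) (s : MulAut T) (hs : s ^ 2 ^ (N + 1) = 1) (C : Subgroup T)
    [hC : C.Characteristic] (hcl : ∀ x ∈ C, ∀ y ∈ C, ⁅x, y⁆ ∈ Subgroup.centralizer (C : Set T))
    (hct : ∀ x ∈ C, ∀ y ∈ C, ⁅x, y⁆ ^ t = 1)
    (hzZ : ∀ x ∈ C ⊓ Subgroup.centralizer (C : Set T), (s ^ 2 ^ N) x = x) {e : MulAut T}
    {K : Type w} [Field K] [IsAlgClosed K] [CharP K 2] (htK : (t : K) ≠ 0)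
    {W : Type v} [AddCommGroup W] [Module K W] [FiniteDimensional K W] (ρ : T →* Module.End K W)
    (X : Module.End K W) (hconj : ∀ g, X * ρ g = ρ (s g) * X) (hX : X ^ 2 ^ (N + 1) = 1)
    (hsum : ∑ k ∈ Finset.range (2 ^ (N + 1)), X ^ k = 0)
    {c d : T} (hc : c ∈ C) (hd : d ∈ C) (hf : ρ ⁅c⁻¹ * e c, d⁆ ≠ 1) :
    ∃ (P : Pairing T K C (C ⊓ Subgroup.centralizer (C : Set T)) t) (a₀ : ℕ), a₀ ≤ N ∧
      s ^ 2 ^ a₀ ∈ P.stab ∧
      (∀ α : MulAut T, (∀ x ∈ C ⊓ Subgroup.centralizer (C : Set T), α x = x) → α ∈ P.stab) ∧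
      P.φ (c⁻¹ * e c) d ≠ 1 ∧
      ((∀ x ∈ C, x⁻¹ * (s ^ 2 ^ N) x ∈ P.rad) ∨
        (t + 1 = 2 ^ (N + 1 - a₀) ∧ 2 ≤ N + 1 - a₀ ∧
          Nat.card (movedPart (s ^ 2 ^ N) C (C ⊓ Subgroup.centralizer (C : Set T)) ⧸
            P.rad.subgroupOf (movedPart (s ^ 2 ^ N) C (C ⊓ Subgroup.centralizer (C : Set T)))) = t ^ 2)) := by
  classical
  haveI : Fintype T := Fintype.ofFinite T
  set z := s ^ 2 ^ N with hz
  set Z := C ⊓ Subgroup.centralizer (C : Set T) with hZdef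
  have hzz : ∀ x, z (z x) = x := fun x => by
    rw [← MulAut.mul_apply, hz, ← pow_add, ← two_mul, ← pow_succ', hs]; rfl
  have hmapC : ∀ (α : MulAut T) {x : T}, x ∈ C → α x ∈ C := fun α x hx =>
    Subgroup.characteristic_iff_le_comap.1 hC α hx
  have hmapZ : ∀ (α : MulAut T) {x : T}, x ∈ Z → α x ∈ Z := fun α x hx =>
    ⟨hmapC α hx.1, Subgroup.mem_centralizer_iff.2 fun y hy => by
      rw [← MulAut.apply_inv_self _ α y, ← map_mul, ← map_mul,
        Subgroup.mem_centralizer_iff.1 hx.2 _ (hmapC α⁻¹ hy)]⟩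
  have hZcomm : ∀ x ∈ Z, ∀ y ∈ C, Commute x y := fun x hx y hy =>
    (Subgroup.mem_centralizer_iff.1 hx.2 y hy).symm
  have hclZ : ∀ x ∈ C, ∀ y ∈ C, ⁅x, y⁆ ∈ Z := fun x hx y hy =>
    ⟨(Subgroup.commutator_le_self C) (Subgroup.commutator_mem_commutator hx hy), hcl x hx y hy⟩
  have hcardK : ∀ {m : ℕ}, m ∣ Nat.card T → (m : K) ≠ 0 := by
    intro m hm
    obtain ⟨k, hk⟩ := hT.exists_card_eq
    obtain ⟨l, -, rfl⟩ := (Nat.dvd_prime_pow ht.out).1 (hk ▸ hm)
    rw [Nat.cast_pow]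
    exact pow_ne_zero _ htK
  set w₁ := c⁻¹ * e c with hw₁
  have hw₁C : w₁ ∈ C := mul_mem (inv_mem hc) (hmapC e hc)
  set f := ⁅w₁, d⁆ with hfdef
  have hfZ : f ∈ Z := hclZ _ hw₁C _ hd
  have hρcomm : ∀ {ζ : T}, ζ ∈ Z → ∀ g ∈ C, ∀ w : W, ρ ζ (ρ g w) = ρ g (ρ ζ w) := by
    intro ζ hζ g hg w
    rw [← Module.End.mul_apply, ← Module.End.mul_apply, ← map_mul, ← map_mul, (hZcomm ζ hζ g hg).eq]
  -- an eigenspace of the centre
  set U₀ := LinearMap.range (ρ f - 1) with hU₀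
  have hU₀inv : ∀ g ∈ C, ∀ w ∈ U₀, ρ g w ∈ U₀ := by
    rintro g hg _ ⟨w, rfl⟩
    exact ⟨ρ g w, by simp [hρcomm hfZ g hg]⟩
  have hU₀ne : U₀ ≠ ⊥ := by
    rw [Ne, hU₀, LinearMap.range_eq_bot, sub_eq_zero]
    exact hf
  obtain ⟨W0, ⟨hW0, hW0U, hW0inv⟩, hW0min⟩ := wellFounded_lt.has_min
    {W' : Submodule K W | W' ≠ ⊥ ∧ W' ≤ U₀ ∧ ∀ g ∈ C, ∀ w ∈ W', ρ g w ∈ W'} ⟨U₀, hU₀ne, le_rfl, hU₀inv⟩
  haveI : Nontrivial W0 := Submodule.nontrivial_iff_ne_bot.2 hW0
  have hscal : ∀ ζ : T, ∃ k : K, ζ ∈ Z → ∀ w ∈ W0, ρ ζ w = k • w := by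
    intro ζ
    by_cases hζ : ζ ∈ Z
    swap
    · exact ⟨0, fun h => absurd h hζ⟩
    obtain ⟨k, hk⟩ := Module.End.exists_eigenvalue
      ((ρ ζ).restrict (fun w hw => hW0inv ζ hζ.1 w hw) : Module.End K W0)
    obtain ⟨⟨y, hyW⟩, hy, hy0⟩ := hk.exists_hasEigenvector
    refine ⟨k, fun _ w hw => ?_⟩
    have hW' : W0 ⊓ Module.End.eigenspace (ρ ζ) k = W0 := by
      refine inf_le_left.eq_of_not_lt (hW0min _ ⟨?_, inf_le_left.trans hW0U, ?_⟩)
      · intro h
        have hy' : y ∈ W0 ⊓ Module.End.eigenspace (ρ ζ) k :=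
          ⟨hyW, Module.End.mem_eigenspace_iff.2 (congrArg Subtype.val (Module.End.mem_eigenspace_iff.1 hy))⟩
        rw [h, Submodule.mem_bot] at hy'
        exact hy0 (Subtype.ext hy')
      · intro g hg x hx
        refine ⟨hW0inv g hg x hx.1, Module.End.mem_eigenspace_iff.2 ?_⟩
        rw [hρcomm hζ g hg, Module.End.mem_eigenspace_iff.1 hx.2, map_smul]
    exact Module.End.mem_eigenspace_iff.1 (hW'.ge hw).2
  choose lam hlam using hscal
  obtain ⟨w₀, hw₀, hw₀0⟩ := Submodule.exists_mem_ne_zero_of_ne_bot hW0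
  have hlam1 : lam 1 = 1 := smul_left_injective K hw₀0 (by
    have := hlam 1 (one_mem _) w₀ hw₀
    rw [map_one, Module.End.one_apply] at this
    show lam 1 • w₀ = (1 : K) • w₀
    rw [one_smul, ← this])
  have hlammul : ∀ a ∈ Z, ∀ b ∈ Z, lam (a * b) = lam a * lam b :=
    fun a ha b hb => smul_left_injective K hw₀0 (by
      show lam (a * b) • w₀ = (lam a * lam b) • w₀
      rw [← hlam _ (mul_mem ha hb) w₀ hw₀, map_mul, Module.End.mul_apply, hlam b hb w₀ hw₀, map_smul,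
        hlam a ha w₀ hw₀, smul_smul, mul_comm])
  have hlampow : ∀ a ∈ Z, ∀ k : ℕ, lam (a ^ k) = lam a ^ k := by
    intro a ha k
    induction k with
    | zero => simpa using hlam1
    | succ k ih => rw [pow_succ, hlammul _ (pow_mem ha k) a ha, ih, pow_succ]
  have hlamf : lam f ≠ 1 := by
    intro h
    obtain ⟨x, hx⟩ := hW0U hw₀
    have hfix : ρ f w₀ = w₀ := by rw [hlam f hfZ w₀ hw₀, h, one_smul]
    have h1 : (∑ k ∈ Finset.range (orderOf f), ρ f ^ k) w₀ = 0 := by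
      rw [← hx, ← Module.End.mul_apply, geom_sum_mul, ← map_pow, pow_orderOf_eq_one, map_one, sub_self,
        LinearMap.zero_apply]
    have hp' : ∀ k : ℕ, (ρ f ^ k) w₀ = w₀ := by
      intro k
      induction k with
      | zero => rfl
      | succ k ih => rw [pow_succ, Module.End.mul_apply, hfix, ih]
    rw [LinearMap.sum_apply] at h1
    simp only [hp', Finset.sum_const, Finset.card_range, ← Nat.cast_smul_eq_nsmul K] at h1
    exact hw₀0 ((smul_eq_zero.1 h1).resolve_left (hcardK (orderOf_dvd_natCard f)))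
  -- periods of the eigenvalue system
  let L : ℕ → T → K := fun k ζ => lam ((s⁻¹ ^ k) ζ)
  let Per : ℕ → Prop := fun k => ∀ ζ ∈ Z, L k ζ = lam ζ
  have hPadd : ∀ k l, Per k → (Per (k + l) ↔ Per l) := by
    intro k l hk
    refine forall₂_congr fun ζ hζ => ?_
    show lam ((s⁻¹ ^ (k + l)) ζ) = _ ↔ lam ((s⁻¹ ^ l) ζ) = _
    rw [pow_add, MulAut.mul_apply, show lam ((s⁻¹ ^ k) ((s⁻¹ ^ l) ζ)) = lam ((s⁻¹ ^ l) ζ) from
      hk _ (hmapZ _ hζ)]
  have hPn : Per (2 ^ N) := by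
    intro ζ hζ
    show lam ((s⁻¹ ^ 2 ^ N) ζ) = _
    rw [inv_pow, ← hz]
    congr 1
    conv_lhs => rw [← hzZ ζ hζ]
    simp
  have hexper : ∃ k, 0 < k ∧ Per k := ⟨2 ^ N, Nat.two_pow_pos N, hPn⟩
  set per := Nat.find hexper with hper
  obtain ⟨hper0, hperP⟩ := Nat.find_spec hexper
  have hpermul : ∀ k, Per (per * k) := by
    intro k
    induction k with
    | zero => intro ζ _; rfl
    | succ k ih => rw [Nat.mul_succ]; exact ((hPadd _ _ ih).2 hperP)
  have hperdvd : per ∣ 2 ^ N := by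
    refine Nat.dvd_of_mod_eq_zero ?_
    by_contra h0
    have h := (hPadd _ (2 ^ N % per) (hpermul (2 ^ N / per))).1 (by rw [Nat.div_add_mod]; exact hPn)
    exact absurd (Nat.find_min' hexper ⟨Nat.pos_of_ne_zero h0, h⟩) (not_le.2 (Nat.mod_lt _ hper0))
  obtain ⟨a₀, haN, hpa⟩ := (Nat.dvd_prime_pow Nat.prime_two).1 hperdvd
  set b := N + 1 - a₀ with hb
  have hb0 : 0 < b := by omega
  have hN0ab : 2 ^ (N + 1) = per * 2 ^ b := by rw [hpa, ← pow_add]; congr 1; omega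
  have hdist : ∀ k l, k < l → l < per → ∃ ζ ∈ Z, L k ζ ≠ L l ζ := by
    intro k l hkl hl
    by_contra hcon
    push Not at hcon
    refine absurd (Nat.find_min' hexper ⟨show 0 < l - k by omega, fun ζ hζ => ?_⟩)
      (show ¬ per ≤ l - k by omega)
    have h := hcon _ (hmapZ (s ^ k) hζ)
    have hcancel : (s⁻¹ ^ k) ((s ^ k) ζ) = ζ := by
      rw [← MulAut.mul_apply, inv_pow, inv_mul_cancel]; rfl
    show lam ((s⁻¹ ^ (l - k)) ζ) = lam ζ
    have h' : lam ((s⁻¹ ^ k) ((s ^ k) ζ)) = lam ((s⁻¹ ^ l) ((s ^ k) ζ)) := h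
    rw [show s⁻¹ ^ l = s⁻¹ ^ (l - k) * s⁻¹ ^ k by rw [← pow_add]; congr 1; omega, MulAut.mul_apply,
      hcancel] at h'
    exact h'.symm
  set τ := s ^ per with hτ
  have hzτ : z = τ ^ 2 ^ (b - 1) := by
    rw [hz, hτ, ← pow_mul, hpa, ← pow_add]
    congr 2
    omega
  have hτN : τ ^ 2 ^ b = 1 := by rw [hτ, ← pow_mul, ← hN0ab, hs]
  have hlamτ : ∀ ζ ∈ Z, lam (τ ζ) = lam ζ := by
    intro ζ hζ
    have h := hperP _ (hmapZ τ hζ)
    rw [show L per (τ ζ) = lam ((s⁻¹ ^ per) (τ ζ)) from rfl, hτ, inv_pow, MulAut.inv_apply_self] at h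
    exact h.symm
  -- the pairing
  have hφmul : ∀ x ∈ C, ∀ x' ∈ C, ∀ y ∈ C, lam ⁅x * x', y⁆ = lam ⁅x, y⁆ * lam ⁅x', y⁆ := by
    intro x hx x' hx' y hy
    have h := hclZ x' hx' y hy
    rw [commutator_mul_of_class_two (hZcomm _ h x hx) (hZcomm _ h _ (hclZ x hx y hy).1),
      hlammul _ (hclZ x hx y hy) _ h]
  have hφinv : ∀ x ∈ C, ∀ y ∈ C, lam ⁅y, x⁆ * lam ⁅x, y⁆ = 1 := fun x hx y hy => by
    rw [← hlammul _ (hclZ y hy x hx) _ (hclZ x hx y hy), ← commutatorElement_inv, inv_mul_cancel, hlam1]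
  let P : Pairing T K C Z t :=
    { φ := fun x y => lam ⁅x, y⁆
      hZC := inf_le_left
      hcomm := hclZ
      mul_left := hφmul
      mul_right := fun x hx y hy y' hy' => by
        have h1 := hφinv x hx (y * y') (mul_mem hy hy')
        rw [hφmul y hy y' hy' x hx] at h1
        calc lam ⁅x, y * y'⁆ = (lam ⁅y, x⁆ * lam ⁅x, y⁆) * (lam ⁅y', x⁆ * lam ⁅x, y'⁆) * lam ⁅x, y * y'⁆ := by
              rw [hφinv x hx y hy, hφinv x hx y' hy', one_mul, one_mul]
          _ = (lam ⁅y, x⁆ * lam ⁅y', x⁆ * lam ⁅x, y * y'⁆) * (lam ⁅x, y⁆ * lam ⁅x, y'⁆) := by ring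
          _ = _ := by rw [h1, one_mul]
      self := fun x _ => by rw [commutatorElement_self, hlam1]
      pow_eq := fun x hx y hy => by rw [← hlampow _ (hclZ x hx y hy), hct x hx y hy, hlam1]
      zero := fun x hx y hy => by
        rw [commutatorElement_eq_one_iff_mul_comm.2 (hZcomm x hx y hy).eq, hlam1] }
  have hφ : ∀ x y, P.φ x y = lam ⁅x, y⁆ := fun _ _ => rfl
  have hstab : ∀ α : MulAut T, (∀ ζ ∈ Z, lam (α ζ) = lam ζ) → α ∈ P.stab := fun α h x hx y hy => by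
    rw [hφ, hφ, ← map_commutatorElement, h _ (hclZ x hx y hy)]
  have hzstab : z ∈ P.stab := hstab z fun ζ hζ => by rw [hzZ ζ hζ]
  have hτstab : τ ∈ P.stab := hstab τ hlamτ
  set C1 := movedPart z C Z with hC1
  have hC1C : C1 ≤ C := movedPart_le P.hZC
  have hZC1 : Z ≤ C1 := le_sup_right
  have hτz : ∀ x, τ (z x) = z (τ x) := fun x => by
    rw [← MulAut.mul_apply, ← MulAut.mul_apply, hz, hτ, ← pow_add, ← pow_add, add_comm]
  have hC1map : ∀ α : MulAut T, (∀ x, α (z x) = z (α x)) → ∀ {x : T}, x ∈ C1 → α x ∈ C1 :=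
    fun α hα x hx => movedPart_map hα (fun _ h => hmapZ α h) hx
  refine ⟨P, a₀, haN, by rw [← hpa, ← hτ]; exact hτstab,
    fun α h => hstab α fun ζ hζ => by rw [h ζ hζ], hlamf, ?_⟩
  by_cases hno : ∀ x ∈ C1, ∀ y ∈ C1, P.φ x y = 1
  · refine Or.inl fun x hx => ?_
    have hmem : x⁻¹ * z x ∈ C1 := Subgroup.mem_sup_left (Subgroup.subset_closure ⟨x, hx, rfl⟩)
    exact P.moved_rad ht2 hT hzz hzZ hzstab hmem fun y hy => hno _ hmem y hy
  refine Or.inr ?_
  push Not at hno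
  obtain ⟨x₂, hx₂, y₂, hy₂, hxy₂⟩ := hno
  -- an irreducible constituent
  let Wl : Submodule K W :=
    { carrier := {w | ∀ ζ ∈ Z, ρ ζ w = lam ζ • w}
      add_mem' := fun {w w'} h h' ζ hζ => by rw [map_add, h ζ hζ, h' ζ hζ, smul_add]
      zero_mem' := fun ζ _ => by rw [map_zero, smul_zero]
      smul_mem' := fun k w h ζ hζ => by rw [map_smul, h ζ hζ, smul_comm] }
  have hXpow : ∀ (k : ℕ) (g : T), X ^ k * ρ g = ρ ((s ^ k) g) * X ^ k := by
    intro k
    induction k with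
    | zero => intro g; simp
    | succ k ih =>
      intro g
      rw [pow_succ, mul_assoc, hconj, ← mul_assoc, ih, mul_assoc, pow_succ, MulAut.mul_apply]
  have hWlX : ∀ (k : ℕ), ∀ w ∈ Wl, ∀ ζ ∈ Z, ρ ζ ((X ^ k) w) = L k ζ • (X ^ k) w := by
    intro k w hw ζ hζ
    have hcancel : (s ^ k) ((s⁻¹ ^ k) ζ) = ζ := by
      rw [← MulAut.mul_apply, inv_pow, mul_inv_cancel]; rfl
    have h := LinearMap.congr_fun (hXpow k ((s⁻¹ ^ k) ζ)) w
    rw [hcancel, Module.End.mul_apply, Module.End.mul_apply, hw _ (hmapZ _ hζ), map_smul] at h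
    exact h.symm
  have hWlne : Wl ≠ ⊥ := fun h => hw₀0 <| by
    have : w₀ ∈ Wl := fun ζ hζ => hlam ζ hζ w₀ hw₀
    rwa [h, Submodule.mem_bot] at this
  obtain ⟨U, ⟨hU, hUWl, hUρ, hUX⟩, hUmin⟩ := wellFounded_lt.has_min
    {U : Submodule K W | U ≠ ⊥ ∧ U ≤ Wl ∧ (∀ x ∈ C1, ∀ w ∈ U, ρ x w ∈ U) ∧ ∀ w ∈ U, (X ^ per) w ∈ U}
    ⟨Wl, hWlne, le_rfl, fun x hx w hw ζ hζ => by rw [hρcomm hζ x (hC1C hx), hw ζ hζ, map_smul],
      fun w hw ζ hζ => by rw [hWlX per w hw ζ hζ, hperP ζ hζ]⟩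
  haveI : Nontrivial U := Submodule.nontrivial_iff_ne_bot.2 hU
  let a : C1 →* Module.End K U :=
    { toFun := fun x => (ρ (x : T)).restrict (fun w hw => hUρ x x.2 w hw)
      map_one' := LinearMap.ext fun w => Subtype.ext (by simp)
      map_mul' := fun g g' => LinearMap.ext fun w => Subtype.ext (by simp) }
  let T' : Module.End K U := (X ^ per).restrict hUX
  have hTval : ∀ (k : ℕ) (w : U), (((T' ^ k) w : U) : W) = (X ^ (per * k)) (w : W) := by
    intro k
    induction k with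
    | zero => intro w; simp
    | succ k ih =>
      intro w
      rw [pow_succ, Module.End.mul_apply, ih, Nat.mul_succ, pow_add, Module.End.mul_apply]
      rfl
  have hTN : T' ^ 2 ^ b = 1 := LinearMap.ext fun w => Subtype.ext (by rw [hTval, ← hN0ab, hX]; rfl)
  have hTsum : ∑ k ∈ Finset.range (2 ^ b), T' ^ k = 0 := by
    refine LinearMap.ext fun w => Subtype.ext ?_
    set Sw : U := (∑ k ∈ Finset.range (2 ^ b), T' ^ k) w with hSw
    have hSwval : (Sw : W) = (∑ k ∈ Finset.range (2 ^ b), X ^ (per * k)) (w : W) := by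
      rw [hSw, LinearMap.sum_apply, LinearMap.sum_apply, Submodule.coe_sum]
      exact Finset.sum_congr rfl fun k _ => hTval k w
    have hsplit : ∀ m : ℕ, ∑ k ∈ Finset.range (per * m), X ^ k =
        (∑ k ∈ Finset.range per, X ^ k) * ∑ l ∈ Finset.range m, X ^ (per * l) := by
      intro m
      induction m with
      | zero => simp
      | succ m ih =>
        rw [Nat.mul_succ, Finset.sum_range_add, ih, Finset.sum_range_succ, mul_add, Finset.sum_mul]
        congr 1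
        rw [Finset.sum_mul]
        exact Finset.sum_congr rfl fun k _ => by rw [← pow_add, add_comm]
    have h0 : ∑ k ∈ Finset.range per, (X ^ k) (Sw : W) = 0 := by
      rw [← LinearMap.sum_apply, hSwval, ← Module.End.mul_apply, ← hsplit, ← hN0ab, hsum,
        LinearMap.zero_apply]
    rw [← Fin.sum_univ_eq_sum_range (fun k => (X ^ k) (Sw : W))] at h0
    have h := CfsgLib.HallHigman.weight_indep (K := K) (T := fun ζ : Z => ρ (ζ : T))
      (fun (k : Fin per) (ζ : Z) => L k ζ)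
      (fun k l hkl => by
        rcases lt_or_gt_of_ne (Fin.val_ne_iff.2 hkl) with hlt | hlt
        · obtain ⟨ζ, hζ, hne⟩ := hdist k l hlt l.2
          exact ⟨⟨ζ, hζ⟩, hne⟩
        · obtain ⟨ζ, hζ, hne⟩ := hdist l k hlt k.2
          exact ⟨⟨ζ, hζ⟩, fun e => hne e.symm⟩)
      Finset.univ (fun k => (X ^ (k : ℕ)) (Sw : W)) (fun k _ ζ => hWlX k Sw (hUWl Sw.2) ζ ζ.2) h0
      ⟨0, hper0⟩ (Finset.mem_univ _)
    simpa using h
  have haZ : ∀ x : C1, (x : T) ∈ Z → a x = lam x • (1 : Module.End K U) := fun x hx =>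
    LinearMap.ext fun w => Subtype.ext (hUWl w.2 _ hx)
  obtain ⟨w₂, hw₂⟩ := exists_ne (0 : U)
  have hsinj : ∀ k l : K, k • (1 : Module.End K U) = l • 1 → k = l := fun k l h =>
    smul_left_injective K hw₂ (LinearMap.congr_fun h w₂)
  obtain ⟨σ1, hσ1⟩ := CfsgLib.Solvable.exists_restrict τ C1 (fun x hx => hC1map τ hτz hx)
  have hTconj : ∀ x : C1, T' * a x = a (σ1 x) * T' := fun x => LinearMap.ext fun w => Subtype.ext (by
    show (X ^ per) (ρ (x : T) w) = ρ ((σ1 x : C1) : T) ((X ^ per) w)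
    rw [hσ1, ← Module.End.mul_apply, hXpow, Module.End.mul_apply])
  have hpos : 0 < 2 ^ b := Nat.two_pow_pos b
  let γ : (Module.End K U)ˣ := ⟨T', T' ^ (2 ^ b - 1),
    by rw [← pow_succ', Nat.sub_add_cancel hpos, hTN],
    by rw [← pow_succ, Nat.sub_add_cancel hpos, hTN]⟩
  have hγ : ∀ x : C1, γ * a.toHomUnits x * γ⁻¹ = a.toHomUnits (σ1 x) := fun x => by
    rw [mul_inv_eq_iff_eq_mul]
    exact Units.ext (hTconj x)
  have hγpow : ∀ (k : ℕ) (x : C1), γ ^ k * a.toHomUnits x * (γ ^ k)⁻¹ = a.toHomUnits ((σ1 ^ k) x) := by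
    intro k
    induction k with
    | zero => intro x; simp
    | succ k ih =>
      intro x
      rw [pow_succ σ1, MulAut.mul_apply, ← ih, ← hγ, pow_succ γ]
      group
  have hkerσ : ∀ x ∈ a.ker, σ1 x ∈ a.ker := fun x hx => by
    have h := hγ x
    rw [show a.toHomUnits x = 1 from Units.ext hx, mul_one, mul_inv_cancel] at h
    exact (congrArg Units.val h).symm
  have hσ1z : ∀ x : C1, (((σ1 ^ 2 ^ (b - 1)) x : C1) : T) = z x := fun x => by
    rw [CfsgLib.Solvable.restrict_pow hσ1, hzτ]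
  have hσ1N : σ1 ^ 2 ^ b = 1 :=
    MulEquiv.ext fun x => Subtype.ext (by rw [CfsgLib.Solvable.restrict_pow hσ1, hτN]; rfl)
  have hncop : ∀ M : Subgroup C1, ¬ 2 ∣ Nat.card M := by
    intro M hd
    obtain ⟨k, hk⟩ := ((hT.to_subgroup C1).to_subgroup M).exists_card_eq
    exact ht2 ((Nat.prime_dvd_prime_iff_eq Nat.prime_two ht.out).1 (Nat.prime_two.dvd_of_dvd_pow (hk ▸ hd))).symm
  have hlift : ∀ M : Subgroup C1, (∀ y ∈ M, σ1 y ∈ M) → ∀ x : C1,
      x⁻¹ * (σ1 ^ 2 ^ (b - 1)) x ∈ M → ∃ m ∈ M, ((x * m : C1) : T) ∈ Z := by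
    intro M hM x hx
    obtain ⟨m, hm, hfix⟩ := exists_fixed_mem_coset (p := 2) (k := 1) (σ1 ^ 2 ^ (b - 1))
      (by rw [pow_one, ← pow_mul, ← pow_succ, Nat.sub_add_cancel hb0, hσ1N]) M
      (fun y hy => CfsgLib.Solvable.pow_mem_of_invariant hM _ hy) (hncop M) hx
    refine ⟨m, hm, P.moved_fixed ht2 hT hzz hzZ (x * m).2 ?_⟩
    rw [← hσ1z, hfix]
  have hscal_of_fix : ∀ x : C1, a.toHomUnits ((σ1 ^ 2 ^ (b - 1)) x) = a.toHomUnits x →
      ∃ k : K, a x = k • (1 : Module.End K U) := by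
    intro x hx
    have hx' : a ((σ1 ^ 2 ^ (b - 1)) x) = a x := congrArg Units.val hx
    obtain ⟨m, hm, hfix⟩ := hlift a.ker hkerσ x
      (by rw [MonoidHom.mem_ker, map_mul, hx', ← map_mul, inv_mul_cancel, map_one])
    refine ⟨lam ((x * m : C1) : T), ?_⟩
    rw [← haZ _ hfix, map_mul, MonoidHom.mem_ker.1 hm, mul_one]
  have hacomm : ∀ x y : C1, a x * a y = lam ⁅(x : T), (y : T)⁆ • (a y * a x) := by
    intro x y
    rw [← map_mul, ← map_mul, show x * y = ⁅x, y⁆ * (y * x) by simp only [commutatorElement_def]; group,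
      map_mul a ⁅x, y⁆, haZ ⁅x, y⁆ (hclZ _ (hC1C x.2) _ (hC1C y.2)), smul_mul_assoc, one_mul]
    rfl
  set Rad1 := P.rad.subgroupOf C1 with hRad1
  have hRad1σ : ∀ y ∈ Rad1, σ1 y ∈ Rad1 := fun y hy => by
    rw [Subgroup.mem_subgroupOf, hσ1]
    exact P.rad_map hτstab hy
  have hradcomm : ∀ x y : C1, x ∈ Rad1 → Commute (a x) (a y) := by
    intro x y hx
    show a x * a y = a y * a x
    rw [hacomm, show lam ⁅(x : T), (y : T)⁆ = 1 from (Subgroup.mem_subgroupOf.1 hx).2 _ (hC1C y.2), one_smul]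
  have hradiff : ∀ x : C1, (∀ y, a x * a y = a y * a x) → x ∈ Rad1 := by
    intro x hx
    refine Subgroup.mem_subgroupOf.2 (P.moved_rad ht2 hT hzz hzZ hzstab x.2 fun y hy => ?_)
    have h := hacomm x ⟨y, hy⟩
    rw [hx] at h
    have hu' : IsUnit (a ⟨y, hy⟩ * a x) := by
      rw [← map_mul]; exact ⟨a.toHomUnits _, rfl⟩
    obtain ⟨un, hun⟩ := hu'
    rw [← hun] at h
    have h2 := congrArg (fun g => g * ((un⁻¹ : (Module.End K U)ˣ) : Module.End K U)) h
    simp only [Units.mul_inv, smul_mul_assoc] at h2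
    rw [hφ]
    exact (hsinj _ _ ((one_smul K _).trans h2)).symm
  haveI : Finite (Rad1.map a.toHomUnits) :=
    Finite.of_surjective (fun y : Rad1 => (⟨_, y, y.2, rfl⟩ : Rad1.map a.toHomUnits))
      (by rintro ⟨_, y, hy, rfl⟩; exact ⟨⟨y, hy⟩, rfl⟩)
  have hall := CfsgLib.FourPrimes.avg_lemma (Rad1.map a.toHomUnits)
    (by rintro _ ⟨x, hx, rfl⟩ _ ⟨y, -, rfl⟩; exact Units.ext (hradcomm x y hx).eq) γ
    (by rintro _ ⟨x, hx, rfl⟩; exact ⟨σ1 x, hRad1σ x hx, (hγ x).symm⟩) hpos hTsum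
    (by
      rintro k hk hkb _ ⟨x, hx, rfl⟩ e'
      rw [show b = b - 1 + 1 by omega] at hkb
      obtain ⟨l, hl⟩ := exists_pow_eq_pow Nat.prime_two hk hkb
      have hpow : ∀ m : ℕ, a.toHomUnits ((σ1 ^ (k * m)) x) = a.toHomUnits x := by
        intro m
        induction m with
        | zero => rfl
        | succ m ih =>
          rw [← hγpow] at ih ⊢
          rw [Nat.mul_succ, add_comm, pow_add, mul_inv_rev,
            show γ ^ k * γ ^ (k * m) * a.toHomUnits x * ((γ ^ (k * m))⁻¹ * (γ ^ k)⁻¹) =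
              γ ^ k * (γ ^ (k * m) * a.toHomUnits x * (γ ^ (k * m))⁻¹) * (γ ^ k)⁻¹ by group, ih, e']
      have h := hpow l
      rw [pow_eq_pow_mod _ hσ1N, show b = b - 1 + 1 by omega, hl] at h
      obtain ⟨q, hq⟩ := hscal_of_fix x h
      refine mul_inv_eq_iff_eq_mul.2 (Units.ext ?_)
      show (γ : Module.End K U) * a x = a x * (γ : Module.End K U)
      rw [hq, smul_mul_assoc, one_mul, mul_smul_comm, mul_one])
    (fun y hy => by
      refine cast_mul_eq_zero (K := K) (c := Nat.card (Rad1.map a.toHomUnits)) ?_ hy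
      exact hcardK ((Subgroup.card_dvd_of_surjective (a.toHomUnits.subgroupMap Rad1)
        (a.toHomUnits.subgroupMap_surjective Rad1)).trans ((Subgroup.card_subgroup_dvd_card Rad1).trans
          (Subgroup.card_subgroup_dvd_card C1))))
  have hradscal : ∀ x ∈ Rad1, ∃ k : K, a x = k • (1 : Module.End K U) := by
    intro x hx
    refine hscal_of_fix x ?_
    rw [← hγpow]
    have h := hall _ ⟨x, hx, rfl⟩
    generalize 2 ^ (b - 1) = m
    induction m with
    | zero => simp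
    | succ m ih =>
      rw [pow_succ, mul_inv_rev,
        show γ ^ m * γ * a.toHomUnits x * (γ⁻¹ * (γ ^ m)⁻¹) =
          γ ^ m * (γ * a.toHomUnits x * γ⁻¹) * (γ ^ m)⁻¹ by group, h, ih]
  -- the quotient
  let q := QuotientGroup.mk' a.ker
  have hq : Function.Surjective q := QuotientGroup.mk'_surjective _
  let a' : C1 ⧸ a.ker →* Module.End K U := QuotientGroup.lift a.ker a le_rfl
  have ha'inj : Function.Injective a' := by
    intro x y hxy
    obtain ⟨g, rfl⟩ := hq x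
    obtain ⟨g', rfl⟩ := hq y
    refine QuotientGroup.eq.2 ?_
    have h1 : a g = a g' := hxy
    rw [MonoidHom.mem_ker, map_mul, ← h1, ← map_mul, inv_mul_cancel, map_one]
  have hcenter : (Subgroup.center (C1 ⧸ a.ker)).comap q = Rad1 := by
    ext x
    rw [Subgroup.mem_comap, Subgroup.mem_center_iff]
    constructor
    · intro h
      refine hradiff x fun y => ?_
      have := congrArg a' (h (q y))
      rw [map_mul, map_mul] at this
      exact this.symm
    · intro h y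
      obtain ⟨g, rfl⟩ := hq y
      refine ha'inj ?_
      rw [map_mul, map_mul]
      exact (hradcomm x g h).symm
  have hcentC1 : ∀ x y : C1, q ⁅x, y⁆ ∈ Subgroup.center (C1 ⧸ a.ker) := fun x y => by
    have : ⁅x, y⁆ ∈ (Subgroup.center (C1 ⧸ a.ker)).comap q := by
      rw [hcenter]
      exact Subgroup.mem_subgroupOf.2 (P.le_rad (hclZ _ (hC1C x.2) _ (hC1C y.2)))
    exact this
  haveI : Fintype (C1 ⧸ a.ker) := Fintype.ofFinite _
  have S : CfsgLib.Twisted.Setting a' := by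
    refine ⟨?_, ?_, ?_, ?_⟩
    · intro x y
      obtain ⟨g, rfl⟩ := hq x
      obtain ⟨g', rfl⟩ := hq y
      rw [← map_commutatorElement]
      exact hcentC1 g g'
    · intro x hx
      obtain ⟨g, rfl⟩ := hq x
      exact hradscal g (hcenter.le hx)
    · intro x hx
      by_contra hcon
      push Not at hcon
      refine hx (Subgroup.mem_center_iff.2 fun y => commutatorElement_eq_one_iff_mul_comm.1 (ha'inj ?_))
      rw [hcon, map_one]
    · rw [← Nat.card_eq_fintype_card]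
      exact hcardK ((Subgroup.card_quotient_dvd_card _).trans (Subgroup.card_subgroup_dvd_card C1))
  have hQt : Nat.card (commutator (C1 ⧸ a.ker)) = t := by
    have hprop : ∀ g ∈ commutator (C1 ⧸ a.ker), g ∈ Subgroup.center (C1 ⧸ a.ker) ∧ g ^ t = 1 := by
      intro g hg
      rw [commutator_def, Subgroup.commutator_def] at hg
      induction hg using Subgroup.closure_induction with
      | mem y hy =>
        obtain ⟨g₁, -, g₂, -, rfl⟩ := hy
        obtain ⟨y₁, rfl⟩ := hq g₁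
        obtain ⟨y₂, rfl⟩ := hq g₂
        refine ⟨S.cls _ _, ?_⟩
        rw [← map_commutatorElement, ← map_pow,
          show ⁅y₁, y₂⁆ ^ t = 1 from Subtype.ext (hct _ (hC1C y₁.2) _ (hC1C y₂.2)), map_one]
      | one => exact ⟨one_mem _, one_pow _⟩
      | mul y y' _ _ h1 h2 =>
        refine ⟨mul_mem h1.1 h2.1, ?_⟩
        rw [Commute.mul_pow (Subgroup.mem_center_iff.1 h1.1 y').symm, h1.2, h2.2, one_mul]
      | inv y _ h1 => exact ⟨inv_mem h1.1, by rw [inv_pow, h1.2, inv_one]⟩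
    have hsc : ∀ g : commutator (C1 ⧸ a.ker), ∃ k : K, a' (g : C1 ⧸ a.ker) = k • 1 :=
      fun g => S.scalar _ (hprop g g.2).1
    choose f0 hf0 using hsc
    let fh : commutator (C1 ⧸ a.ker) →* K :=
      { toFun := f0
        map_one' := hsinj _ _ (by rw [← hf0, one_smul]; exact map_one a')
        map_mul' := fun g g' => hsinj _ _ (by
          rw [← hf0, Subgroup.coe_mul, map_mul, hf0, hf0, smul_mul_smul_comm, one_mul]) }
    have hfh : Function.Injective fh := fun g g' h => Subtype.ext (ha'inj (by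
      rw [hf0, hf0]; exact congrArg (· • (1 : Module.End K U)) h))
    haveI : IsCyclic (commutator (C1 ⧸ a.ker)) := isCyclic_of_subgroup_isDomain fh hfh
    have h1 : Monoid.exponent (commutator (C1 ⧸ a.ker)) ∣ t :=
      Monoid.exponent_dvd_of_forall_pow_eq_one fun g => Subtype.ext (hprop g g.2).2
    rw [IsCyclic.exponent_eq_card] at h1
    refine (ht.out.eq_one_or_self_of_dvd _ h1).resolve_left fun h => ?_
    rw [Subgroup.card_eq_one] at h
    have hmem : q ⁅(⟨x₂, hx₂⟩ : C1), ⟨y₂, hy₂⟩⁆ ∈ commutator (C1 ⧸ a.ker) := by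
      rw [map_commutatorElement]
      exact Subgroup.commutator_mem_commutator (Subgroup.mem_top _) (Subgroup.mem_top _)
    rw [h, Subgroup.mem_bot] at hmem
    refine hxy₂ (hsinj _ _ ?_)
    have h2 := congrArg a' hmem
    rw [map_one] at h2
    exact (haZ ⁅(⟨x₂, hx₂⟩ : C1), ⟨y₂, hy₂⟩⁆ (hclZ _ (hC1C hx₂) _ (hC1C hy₂))).symm.trans
      (h2.trans (one_smul K _).symm)
  have hmapker : a.ker.map (σ1 : C1 →* C1) = a.ker := by
    refine Subgroup.eq_of_le_of_card_ge ?_ (le_of_eq (Nat.card_congr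
      (Subgroup.equivMapOfInjective a.ker (σ1 : C1 →* C1) σ1.injective).toEquiv))
    rintro _ ⟨x, hx, rfl⟩
    exact hkerσ x hx
  let σq : MulAut (C1 ⧸ a.ker) := QuotientGroup.congr _ _ σ1 hmapker
  have hσqpow : ∀ (k : ℕ) (x : C1), (σq ^ k) (q x) = q ((σ1 ^ k) x) := by
    intro k
    induction k with
    | zero => intro x; rfl
    | succ k ih => intro x; rw [pow_succ, MulAut.mul_apply, pow_succ, MulAut.mul_apply]; exact ih (σ1 x)
  obtain ⟨htb, hb2, hcard⟩ := two_power_bound_nil S ht2 hQt T' σq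
    (MulEquiv.ext fun x => by obtain ⟨y, rfl⟩ := hq x; rw [hσqpow, hσ1N]; rfl)
    (fun k hk hkb x hx => by
      obtain ⟨y, rfl⟩ := hq x
      rw [hσqpow, ← map_inv, ← map_mul] at hx
      have hy : y⁻¹ * (σ1 ^ k) y ∈ Rad1 := hcenter.le hx
      rw [show b = b - 1 + 1 by omega] at hkb
      obtain ⟨l, hl⟩ := exists_pow_eq_pow Nat.prime_two hk hkb
      have h := iterate_mem (σ1 ^ k) Rad1 (fun y hy => CfsgLib.Solvable.pow_mem_of_invariant hRad1σ k hy) hy l
      rw [← pow_mul, pow_eq_pow_mod _ hσ1N, show b = b - 1 + 1 by omega, hl] at h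
      obtain ⟨m, hm, hfix⟩ := hlift Rad1 hRad1σ y h
      refine hcenter.ge ?_
      have hmem : y * m ∈ Rad1 := Subgroup.mem_subgroupOf.2 (P.le_rad hfix)
      simpa using mul_mem hmem (inv_mem hm))
    hTN (fun x => by obtain ⟨y, rfl⟩ := hq x; exact hTconj y)
    (by rw [CfsgLib.HallHigman.sub_one_pow_pred (K := K)]; exact hTsum)
    (fun V hVa hVT => by
      by_cases hV : V = ⊥
      · exact Or.inl hV
      refine Or.inr ?_
      have hle : V.map U.subtype ≤ U := Submodule.map_subtype_le _ _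
      have heq : V.map U.subtype = U := by
        refine hle.eq_of_not_lt (hUmin _ ⟨?_, hle.trans hUWl, ?_, ?_⟩)
        · exact fun h => hV (Submodule.map_injective_of_injective U.subtype_injective
            (h.trans (Submodule.map_bot _).symm))
        · rintro x hx _ ⟨w, hw, rfl⟩
          exact ⟨a ⟨x, hx⟩ w, hVa (q ⟨x, hx⟩) w hw, rfl⟩
        · rintro _ ⟨w, hw, rfl⟩
          exact ⟨T' w, hVT w hw, rfl⟩
      refine Submodule.eq_top_iff'.2 fun w => ?_
      obtain ⟨w', hw', he'⟩ := (heq.ge w.2 : (w : W) ∈ V.map U.subtype)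
      rwa [← Subtype.ext (a1 := w') (a2 := w) he'])
  -- the plane
  haveI : Rad1.Normal := ⟨fun x hx g => Subgroup.mem_subgroupOf.2
    (P.conj_rad (Subgroup.mem_subgroupOf.1 hx) (hC1C g.2))⟩
  have hidx : Nat.card (C1 ⧸ Rad1) = t ^ 2 := by
    rw [← Subgroup.index_eq_card, ← hcenter, Subgroup.index_comap_of_surjective _ hq, Subgroup.index_eq_card,
      hcard]
  exact ⟨htb, hb2, hidx⟩

/-- The quotient by the radical: the commutator of the involution with a product of powers is trivial. -/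
theorem plane_comm_pairing {t h : ℕ} [ht : Fact t.Prime] (ht2 : t ≠ 2) {T : Type u} [Group T] [Finite T]
    (hT : IsPGroup t T) {K : Type w} [Field K] {C Z : Subgroup T} [hC : C.Characteristic]
    (P : Pairing T K C Z t) (hh : 2 ≤ h) {τ β₀ : MulAut T} (hτ : τ ∈ P.stab) (hτh : τ ^ 2 ^ h = 1)
    (hzZ : ∀ x ∈ Z, (τ ^ 2 ^ (h - 1)) x = x)
    (hidx : Nat.card (movedPart (τ ^ 2 ^ (h - 1)) C Z ⧸
      P.rad.subgroupOf (movedPart (τ ^ 2 ^ (h - 1)) C Z)) = t ^ 2)
    (A E : Subgroup (MulAut T)) (hE : E ≤ P.stab) (hAE : A ≤ E) (hA2 : ∀ a ∈ A, a * a = 1)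
    (hAc : ∀ a ∈ A, ∀ g ∈ E, Commute a g) (hAz : ∀ a ∈ A, Commute a (τ ^ 2 ^ (h - 1)))
    (hE2 : ∀ g ∈ E, g * g ∈ A) (hEc : ∀ g ∈ E, ∀ g' ∈ E, ⁅g, g'⁆ ∈ A)
    (hτE : ∀ g ∈ E, τ * g * τ⁻¹ ∈ E) (hτA : ∀ a ∈ A, τ⁻¹ * a * τ ∈ A) (hβ₀ : β₀ ∈ E)
    (hord : (β₀ * τ) ^ 2 ^ h = 1) {x : T} (hx : x ∈ C) :
    x⁻¹ * ⁅τ ^ 2 ^ (h - 1), (β₀ * τ) ^ 2 ^ (h - 2) * (τ ^ 2 ^ (h - 2))⁻¹⁆ x ∈ P.rad := by
  classical
  set z := τ ^ 2 ^ (h - 1) with hzdef
  set β := (β₀ * τ) ^ 2 ^ (h - 2) * (τ ^ 2 ^ (h - 2))⁻¹ with hβdef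
  have hzz : ∀ x, z (z x) = x := fun x => by
    rw [← MulAut.mul_apply, hzdef, ← pow_add, ← two_mul, ← pow_succ',
      show h - 1 + 1 = h by omega, hτh, MulAut.one_apply]
  have hzstab : z ∈ P.stab := pow_mem hτ _
  set C1 := movedPart z C Z with hC1
  have hC1C : C1 ≤ C := movedPart_le P.hZC
  haveI : (P.rad.subgroupOf C).Normal := ⟨fun y hy g => Subgroup.mem_subgroupOf.2
    (P.conj_rad (Subgroup.mem_subgroupOf.1 hy) g.2)⟩
  let R := P.rad.subgroupOf C
  letI : CommGroup (C ⧸ R) := { (inferInstance : Group (C ⧸ R)) with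
    mul_comm := fun x y => by
      obtain ⟨g, rfl⟩ := QuotientGroup.mk_surjective x
      obtain ⟨g', rfl⟩ := QuotientGroup.mk_surjective y
      rw [← commutatorElement_eq_one_iff_mul_comm]
      exact (QuotientGroup.eq_one_iff _).2
        (Subgroup.mem_subgroupOf.2 (P.le_rad (P.hcomm _ g.2 _ g'.2))) }
  have hexp : ∀ v : C ⧸ R, v ^ t = 1 := fun v => by
    obtain ⟨g, rfl⟩ := QuotientGroup.mk_surjective v
    refine (QuotientGroup.eq_one_iff _).2 (Subgroup.mem_subgroupOf.2 ?_)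
    rw [SubmonoidClass.coe_pow]
    exact ⟨pow_mem g.2 t, fun y hy => by rw [P.pow_left g.2 hy, P.pow_eq _ g.2 y hy]⟩
  have hleft : ∀ {a a' b : T}, a ∈ C → b ∈ C → P.Cg a a' → P.φ a' b = P.φ a b := by
    intro a a' b ha hb hc
    rw [show a' = a * (a⁻¹ * a') by group, P.mul_left a ha _ hc.1 b hb, hc.2 b hb, mul_one]
  have hmk : ∀ {a a' : C}, (a : C ⧸ R) = a' → P.Cg (a : T) a' := fun {a a'} e => by
    simpa [Pairing.Cg] using Subgroup.mem_subgroupOf.1 (QuotientGroup.eq.1 e)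
  let ψ : C ⧸ R → C ⧸ R → K := fun u v => P.φ (u.out : C) (v.out : C)
  have hψ : ∀ a b : C, ψ a b = P.φ a b := by
    intro a b
    show P.φ _ _ = _
    rw [hleft a.2 (Quotient.out (b : C ⧸ R)).2 (hmk (QuotientGroup.out_eq' _).symm),
      P.symm (Quotient.out (b : C ⧸ R)).2 a.2, hleft b.2 a.2 (hmk (QuotientGroup.out_eq' _).symm),
      ← P.symm b.2 a.2]
  let F : Form (C ⧸ R) K :=
    { ψ := ψ
      mul_left := fun u v w => by
        obtain ⟨a, rfl⟩ := QuotientGroup.mk_surjective u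
        obtain ⟨b, rfl⟩ := QuotientGroup.mk_surjective v
        obtain ⟨c, rfl⟩ := QuotientGroup.mk_surjective w
        rw [← QuotientGroup.mk_mul, hψ, hψ, hψ]
        exact P.mul_left _ a.2 _ b.2 _ c.2
      symm := fun u v => by
        obtain ⟨a, rfl⟩ := QuotientGroup.mk_surjective u
        obtain ⟨b, rfl⟩ := QuotientGroup.mk_surjective v
        rw [hψ, hψ]
        exact P.symm a.2 b.2
      self := fun u => by
        obtain ⟨a, rfl⟩ := QuotientGroup.mk_surjective u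
        rw [hψ]
        exact P.self _ a.2
      one_left := fun v => by
        obtain ⟨b, rfl⟩ := QuotientGroup.mk_surjective v
        rw [← QuotientGroup.mk_one, hψ]
        exact P.zero _ (one_mem _) _ b.2
      nondeg := fun v hv => by
        obtain ⟨a, rfl⟩ := QuotientGroup.mk_surjective v
        refine (QuotientGroup.eq_one_iff _).2 (Subgroup.mem_subgroupOf.2 ⟨a.2, fun y hy => ?_⟩)
        have := hv ((⟨y, hy⟩ : C) : C ⧸ R)
        rwa [hψ] at this }
  let res : ∀ α : MulAut T, C →* C := fun α =>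
    { toFun := fun x => ⟨α x, P.map_mem α x.2⟩
      map_one' := Subtype.ext (map_one α)
      map_mul' := fun x y => Subtype.ext (map_mul α _ _) }
  let g : ∀ α : P.stab, C ⧸ R →* C ⧸ R := fun α => QuotientGroup.map R R (res α)
    (fun _ hy => Subgroup.mem_comap.2 (Subgroup.mem_subgroupOf.2 (P.rad_map α.2 (Subgroup.mem_subgroupOf.1 hy))))
  have hg : ∀ (α : P.stab) (a : C), g α (a : C ⧸ R) = ((res α a : C) : C ⧸ R) := fun _ _ => rfl
  have hgmul : ∀ (α β : P.stab) (v : C ⧸ R), g (α * β) v = g α (g β v) := fun α β v => by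
    obtain ⟨a, rfl⟩ := QuotientGroup.mk_surjective v
    rfl
  have hgone : ∀ v : C ⧸ R, g 1 v = v := fun v => by
    obtain ⟨a, rfl⟩ := QuotientGroup.mk_surjective v
    rfl
  let f : P.stab →* MulAut (C ⧸ R) :=
    { toFun := fun α =>
        { toFun := g α
          invFun := g α⁻¹
          left_inv := fun v => by rw [← hgmul, inv_mul_cancel, hgone]
          right_inv := fun v => by rw [← hgmul, mul_inv_cancel, hgone]
          map_mul' := map_mul (g α) }
      map_one' := MulEquiv.ext hgone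
      map_mul' := fun α β => MulEquiv.ext (hgmul α β) }
  have hf : ∀ (α : P.stab) (a : C), f α (a : C ⧸ R) = ((res α a : C) : C ⧸ R) := fun _ _ => rfl
  have hiso : ∀ α, f α ∈ F.iso := fun α u v => by
    obtain ⟨a, rfl⟩ := QuotientGroup.mk_surjective u
    obtain ⟨b, rfl⟩ := QuotientGroup.mk_surjective v
    show ψ (f α a) (f α b) = ψ a b
    rw [hf, hf, hψ, hψ]
    exact α.2 _ a.2 _ b.2
  set zS : P.stab := ⟨z, hzstab⟩ with hzS
  -- the inverted part is the image of the moved part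
  let π : C1 →* C ⧸ R := (QuotientGroup.mk' R).comp (Subgroup.inclusion hC1C)
  have hker : π.ker = P.rad.subgroupOf C1 := by
    ext y
    simp [π, MonoidHom.mem_ker, R, Subgroup.mem_subgroupOf]
  have hrange : π.range = invPart (f zS) := by
    refine le_antisymm ?_ fun v hv => ?_
    · rintro _ ⟨y, rfl⟩
      rw [mem_invPart, eq_inv_iff_mul_eq_one]
      exact (QuotientGroup.eq_one_iff _).2 (Subgroup.mem_subgroupOf.2
        (P.le_rad (P.moved_inverted hzz hzZ y.2)))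
    · obtain ⟨a, rfl⟩ := QuotientGroup.mk_surjective v
      have hmem : ((a : C ⧸ R)⁻¹ * (a : C ⧸ R)⁻¹) ∈ π.range := by
        refine ⟨⟨(a : T)⁻¹ * z a, Subgroup.mem_sup_left (Subgroup.subset_closure ⟨a, a.2, rfl⟩)⟩, ?_⟩
        nth_rw 2 [← mem_invPart.1 hv]
        rfl
      obtain ⟨j, hj⟩ := ht.out.odd_of_ne_two ht2
      have h1 := hexp (a : C ⧸ R)⁻¹
      rw [hj, pow_succ, pow_mul, mul_inv_eq_one] at h1
      have h2 := pow_mem hmem j
      rw [← pow_two, h1] at h2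
      exact h2
  have hU : Nat.card (invPart (f zS)) = t ^ 2 := by
    rw [← hrange, ← Nat.card_congr (QuotientGroup.quotientKerEquivRange π).toEquiv, hker]
    exact hidx
  set τS : P.stab := ⟨τ, hτ⟩ with hτS
  have hzτ : f zS = f τS ^ 2 ^ (h - 1) := by
    rw [← map_pow]
    exact congrArg f (Subtype.ext rfl)
  have hmap : ∀ {S : Subgroup (MulAut T)}, ∀ b ∈ (S.subgroupOf P.stab).map f,
      ∃ a, ∃ ha : a ∈ P.stab, a ∈ S ∧ f ⟨a, ha⟩ = b := by
    rintro S _ ⟨⟨a, ha⟩, haS, rfl⟩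
    exact ⟨a, ha, haS, rfl⟩
  have hmem : ∀ {S : Subgroup (MulAut T)} {a : MulAut T} (ha : a ∈ P.stab), a ∈ S →
      f ⟨a, ha⟩ ∈ (S.subgroupOf P.stab).map f := fun ha h => ⟨_, h, rfl⟩
  have key := F.plane_comm ht2 hexp hh (hiso τS)
    (β₀ := f ⟨β₀, hE hβ₀⟩) (by rw [← map_pow, show τS ^ 2 ^ h = 1 from Subtype.ext hτh, map_one])
    (by rw [← hzτ]; exact hU) ((A.subgroupOf P.stab).map f) ((E.subgroupOf P.stab).map f)
    (by rintro _ hb; obtain ⟨a, ha, -, rfl⟩ := hmap _ hb; exact hiso _)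
    (Subgroup.map_mono fun a ha => hAE ha)
    (fun b hb => by
      obtain ⟨a, ha, haA, rfl⟩ := hmap b hb
      rw [← map_mul, show (⟨a, ha⟩ : P.stab) * ⟨a, ha⟩ = 1 from Subtype.ext (hA2 a haA), map_one])
    (fun b hb b' hb' => by
      obtain ⟨a, ha, haA, rfl⟩ := hmap b hb
      obtain ⟨a', ha', haE, rfl⟩ := hmap b' hb'
      exact (show Commute (⟨a, ha⟩ : P.stab) ⟨a', ha'⟩ from Subtype.ext (hAc a haA a' haE).eq).map f)
    (fun b hb => by
      obtain ⟨a, ha, haA, rfl⟩ := hmap b hb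
      rw [← hzτ]
      exact (show Commute (⟨a, ha⟩ : P.stab) zS from Subtype.ext (hAz a haA).eq).map f)
    (fun b hb => by
      obtain ⟨a, ha, haE, rfl⟩ := hmap b hb
      rw [← map_mul]
      exact hmem _ (hE2 a haE))
    (fun b hb b' hb' => by
      obtain ⟨a, ha, haE, rfl⟩ := hmap b hb
      obtain ⟨a', ha', haE', rfl⟩ := hmap b' hb'
      rw [← map_commutatorElement]
      exact ⟨_, hEc a haE a' haE', rfl⟩)
    (fun b hb => by
      obtain ⟨a, ha, haE, rfl⟩ := hmap b hb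
      rw [← map_inv, ← map_mul, ← map_mul]
      exact ⟨_, hτE a haE, rfl⟩)
    (fun b hb => by
      obtain ⟨a, ha, haA, rfl⟩ := hmap b hb
      rw [← map_inv, ← map_mul, ← map_mul]
      exact ⟨_, hτA a haA, rfl⟩)
    (hmem (hE hβ₀) hβ₀)
    (by rw [← map_mul, ← map_pow, show ((⟨β₀, hE hβ₀⟩ : P.stab) * τS) ^ 2 ^ h = 1 from Subtype.ext hord,
      map_one])
  have key' := commutatorElement_eq_one_iff_mul_comm.2 key.eq
  rw [← map_mul, ← map_pow, ← map_pow, ← map_pow, ← map_inv, ← map_mul, ← map_commutatorElement] at key'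
  have h2 := MulEquiv.congr_fun key' ((⟨x, hx⟩ : C) : C ⧸ R)
  rw [hf, MulAut.one_apply, eq_comm] at h2
  exact hmk h2

end CfsgLib.GrossTwo
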