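import Cfsg.Agent.Lib.GrossTwo.Tops
import Cfsg.Agent.Lib.PLengthHH.Step
import Cfsg.Agent.Lib.Transfer.ThompsonFactor
import Mathlib

/-!
Gross's step for the `2`-length: the second quotient of the upper series has a smaller exponent.
-/

set_option autoImplicit false
set_option linter.style.haveILetI false
set_option linter.unusedSectionVars false

open Cfsg
open scoped commutatorElement

namespace CfsgLib.GrossTwo

open CfsgLib.PLengthHH

universe u

/-- The endomorphisms of an elementary abelian `2`-group as operators over an algebraic closure. -/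
theorem exists_rep_ring {V : Type*} [CommGroup V] [Finite V] (hexp : ∀ v : V, v ^ 2 = 1) :
    ∃ (m : ℕ) (F : AddMonoid.End (Additive V) →+* Module.End (Fbar 2) (Fin m → Fbar 2)),
      Function.Injective F := by
  classical
  haveI : Fact (Nat.Prime 2) := ⟨Nat.prime_two⟩
  letI : Module (ZMod 2) (Additive V) := AddCommGroup.zmodModule (n := 2)
    (fun v => Additive.toMul.injective (hexp v.toMul))
  haveI : Finite (Additive V) := inferInstanceAs (Finite V)
  haveI : FiniteDimensional (ZMod 2) (Additive V) := Module.Finite.of_finite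
  let act : AddMonoid.End (Additive V) →+* Module.End (ZMod 2) (Additive V) :=
    { toFun := fun g => AddMonoidHom.toZModLinearMap 2 g
      map_one' := LinearMap.ext fun v => rfl
      map_mul' := fun a b => LinearMap.ext fun v => rfl
      map_zero' := LinearMap.ext fun v => rfl
      map_add' := fun a b => LinearMap.ext fun v => rfl }
  let b := Module.finBasis (ZMod 2) (Additive V)
  let F : Module.End (ZMod 2) (Additive V) →+*
      Module.End (Fbar 2) (Fin (Module.finrank (ZMod 2) (Additive V)) → Fbar 2) :=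
    (Matrix.toLinAlgEquiv' (R := Fbar 2)).toRingEquiv.toRingHom.comp
      ((algebraMap (ZMod 2) (Fbar 2)).mapMatrix.comp (LinearMap.toMatrixAlgEquiv b).toRingEquiv.toRingHom)
  have hF : Function.Injective F := by
    refine (Matrix.toLinAlgEquiv' (R := Fbar 2)).injective.comp ?_
    intro f g hfg
    refine (LinearMap.toMatrixAlgEquiv b).injective ?_
    exact Matrix.map_injective (algebraMap (ZMod 2) (Fbar 2)).injective hfg
  refine ⟨_, F.comp act, hF.comp fun f g hfg => ?_⟩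
  exact DFunLike.ext _ _ fun v => LinearMap.congr_fun hfg v

theorem sub_one_pow_two_pow {K R : Type*} [Field K] [CharP K 2] [Ring R] [Algebra K R] (f : R) (i : ℕ) :
    (f - 1) ^ 2 ^ i = f ^ 2 ^ i - 1 := by
  haveI : Fact (Nat.Prime 2) := ⟨Nat.prime_two⟩
  have h : ((Polynomial.X : Polynomial K) - 1) ^ 2 ^ i = Polynomial.X ^ 2 ^ i - 1 := by
    rw [sub_pow_char_pow, one_pow]
  simpa using congrArg (Polynomial.aeval f) h

variable {K : Type u} [Group K] [Finite K]

theorem conj_pow_mem' {S : Subgroup K} {k : K} (h : ∀ a ∈ S, k * a * k⁻¹ ∈ S) :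
    ∀ (j : ℕ), ∀ a ∈ S, k ^ j * a * (k ^ j)⁻¹ ∈ S := by
  intro j
  induction j with
  | zero => intro a ha; simpa using ha
  | succ j ih =>
    intro a ha
    rw [pow_succ', mul_inv_rev, show k * k ^ j * a * ((k ^ j)⁻¹ * k⁻¹) = k * (k ^ j * a * (k ^ j)⁻¹) * k⁻¹ by group]
    exact h _ (ih a ha)

/-- An element of odd order moving a point by a fixed `2`-element fixes it. -/
theorem eq_one_of_step {γ u w : K} {o : ℕ} (ho : γ ^ o = 1) (hodd : Odd o) (hw : IsPEl 2 w)
    (hγw : Commute γ w) (h : γ * u * γ⁻¹ = w * u) : w = 1 := by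
  have hpow : ∀ j : ℕ, γ ^ j * u * (γ ^ j)⁻¹ = w ^ j * u := by
    intro j
    induction j with
    | zero => simp
    | succ j ih =>
      rw [pow_succ' γ, mul_inv_rev, show γ * γ ^ j * u * ((γ ^ j)⁻¹ * γ⁻¹) =
        γ * (γ ^ j * u * (γ ^ j)⁻¹) * γ⁻¹ by group, ih, show γ * (w ^ j * u) * γ⁻¹ = γ * w ^ j * γ⁻¹ * (γ * u * γ⁻¹) by group,
        h, (hγw.pow_right j).eq, mul_inv_cancel_right, pow_succ, mul_assoc]
  have h1 := hpow o
  rw [ho, one_mul, inv_one, mul_one, eq_comm, mul_eq_right] at h1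
  obtain ⟨k, hk⟩ := hw
  have h2 := pow_gcd_eq_one.2 ⟨h1, hk⟩
  rwa [((Nat.coprime_two_right.2 hodd).pow_right k).gcd_eq_one, pow_one] at h2

variable {H : Type u} [Group H] [Finite H] [hsol : Group.IsSolvable H] {d : ℕ}
  {ρ : H →* Module.End (Fbar 2) (Fin d → Fbar 2)} {e : ℕ}

/-- The commutator of an element with a top power centralizes the `2`-core modulo the odd core. -/
theorem commutator_centralizes (D : SmallDeg ρ e) (he : 1 ≤ e) {f : H →* K} (hf : Function.Surjective f)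
    (hker : (Nat.card f.ker).Coprime 2) {k : K} (hk : IsPEl 2 k) {q : ℕ} [hq : Fact q.Prime] (hq2 : q ≠ 2)
    {S : Subgroup K} (hS : IsPGroup q S) (hkS : ∀ g ∈ S, k * g * k⁻¹ ∈ S) {g : K} (hg : g ∈ S) :
    ⁅g, k ^ 2 ^ e⁆ ∈ Subgroup.centralizer (pCore 2 K : Set K) := by
  classical
  haveI : Fact (Nat.Prime 2) := ⟨Nat.prime_two⟩
  haveI hUn := CfsgLib.Solvable.pCore_normal (p := 2) K
  set U := pCore 2 K with hU
  have hUp : IsPGroup 2 U := CfsgLib.Solvable.pCore_isPGroup 2 K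
  set y := k ^ 2 ^ e with hy
  set γ := ⁅g, y⁆ with hγ
  have hγS : γ ∈ S := by
    have h1 : y * g⁻¹ * y⁻¹ ∈ S := conj_pow_mem' hkS (2 ^ e) _ (inv_mem hg)
    rw [hγ, commutatorElement_def, mul_assoc, mul_assoc, ← mul_assoc y]
    exact mul_mem hg h1
  obtain ⟨o, ho, hodd⟩ : ∃ o, γ ^ o = 1 ∧ Odd o := by
    obtain ⟨i, hi⟩ := hS ⟨γ, hγS⟩
    exact ⟨q ^ i, congrArg Subtype.val hi, (hq.out.odd_of_ne_two hq2).pow⟩
  -- lifting to a 2-subgroup
  set L0 := U ⊔ Subgroup.zpowers k with hL0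
  have hL0p : IsPGroup 2 L0 := by
    refine IsPGroup.to_sup_of_normal_left hUp ?_
    obtain ⟨i, hi⟩ := hk
    rintro ⟨_, j, rfl⟩
    refine ⟨i, Subtype.ext ?_⟩
    show (k ^ j) ^ 2 ^ i = 1
    rw [← zpow_natCast, ← zpow_mul, mul_comm, zpow_mul, zpow_natCast, hi, one_zpow]
  set L := L0.comap f with hL
  let fL : L →* L0 := (f.comp L.subtype).codRestrict L0 fun a => a.2
  have hfL : Function.Surjective fL := by
    rintro ⟨b, hb⟩
    obtain ⟨a, rfl⟩ := hf b
    exact ⟨⟨a, hb⟩, rfl⟩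
  obtain ⟨P0⟩ : Nonempty (Sylow 2 L) := Sylow.nonempty
  have htop : (P0 : Subgroup L).map fL = ⊤ := by
    rw [← Sylow.coe_mapSurjective hfL]
    exact ((P0.mapSurjective hfL).3 (hL0p.to_subgroup ⊤) le_top).symm
  set P := (P0 : Subgroup L).map L.subtype with hP
  have hPp : IsPGroup 2 P := P0.2.map _
  have hlift : ∀ b ∈ L0, ∃ a ∈ P, f a = b := by
    intro b hb
    obtain ⟨a, ha, hab⟩ := htop.ge (Subgroup.mem_top (⟨b, hb⟩ : L0))
    exact ⟨a, ⟨a, ha, rfl⟩, congrArg Subtype.val hab⟩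
  have hinj : ∀ a ∈ P, f a = 1 → a = 1 := fun a ha h1 =>
    IsPEl.eq_one (IsPEl.of_isPGroup hPp ha) (hker.coprime_dvd_left (Subgroup.orderOf_dvd_natCard _ h1))
  have hinjeq : ∀ a ∈ P, ∀ b ∈ P, f a = f b → a = b := fun a ha b hb h1 =>
    inv_mul_eq_one.1 (hinj _ (mul_mem (inv_mem ha) hb) (by rw [map_mul, map_inv, h1, inv_mul_cancel]))
  haveI := zfix_normal (H := H)
  haveI hBn : ((zfix H).map f).Normal := (zfix_normal (H := H)).map f hf
  set B := (zfix H).map f with hB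
  have hBlift : ∀ a ∈ P, f a ∈ B → a ∈ zfix H := by
    rintro a ha ⟨b, hb, hab⟩
    have hbk : b⁻¹ * a ∈ f.ker := by rw [MonoidHom.mem_ker, map_mul, map_inv, hab, inv_mul_cancel]
    have h1 : (a : H ⧸ zfix H) = ((b⁻¹ * a : H) : H ⧸ zfix H) := by
      rw [QuotientGroup.mk_mul, QuotientGroup.mk_inv, (QuotientGroup.eq_one_iff b).2 hb, inv_one, one_mul]
    refine (QuotientGroup.eq_one_iff a).1 (IsPEl.eq_one (p := 2) ((IsPEl.of_isPGroup hPp ha).map (QuotientGroup.mk' _)) ?_)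
    show (orderOf (a : H ⧸ zfix H)).Coprime 2
    rw [h1]
    exact hker.coprime_dvd_left ((orderOf_map_dvd (QuotientGroup.mk' (zfix H)) _).trans
      (Subgroup.orderOf_dvd_natCard _ hbk))
  obtain ⟨x, hxP, hxk⟩ := hlift k (Subgroup.mem_sup_right (Subgroup.mem_zpowers k))
  have hxEl : IsPEl 2 x := IsPEl.of_isPGroup hPp hxP
  have hyB : y ∈ B := ⟨x ^ 2 ^ e, top_mem_zfix D hxEl, by rw [map_pow, hxk]⟩
  have hγB : γ ∈ B := by
    rw [hγ, commutatorElement_def]
    exact mul_mem (hBn.conj_mem y hyB g) (inv_mem hyB)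
  -- the part of the core inside `B` and its critical subgroup
  haveI hUhn : (U ⊓ B).Normal := Subgroup.normal_inf_normal _ _
  set Uh := U ⊓ B with hUh
  have hUhp : IsPGroup 2 Uh := hUp.to_le inf_le_left
  obtain ⟨CU, hCU, h1CU, h2CU, h3CU⟩ := CfsgLib.Transfer.exists_critical hUhp
  haveI := hCU
  haveI hCn : (CU.map Uh.subtype).Normal := inferInstance
  set C := CU.map Uh.subtype with hC
  have hCle : C ≤ Uh := Subgroup.map_subtype_le _
  have hCcls : ∀ c ∈ C, ∀ c' ∈ C, ⁅c, c'⁆ ∈ C ∧ ∀ c'' ∈ C, Commute ⁅c, c'⁆ c'' := by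
    rintro _ ⟨a, ha, rfl⟩ _ ⟨b, hb, rfl⟩
    have h := h2CU (Subgroup.commutator_mem_commutator ha (Subgroup.mem_top b))
    refine ⟨⟨_, h.1, map_commutatorElement _ a b⟩, ?_⟩
    rintro _ ⟨c, hc, rfl⟩
    rw [← map_commutatorElement]
    exact Commute.map (show Commute ⁅a, b⁆ c from (Subgroup.mem_centralizer_iff.1 h.2 c hc).symm) _
  have hCsq : ∀ c ∈ C, ∀ c' ∈ C, Commute (c * c) c' := by
    rintro _ ⟨a, ha, rfl⟩ _ ⟨b, hb, rfl⟩
    have h := h1CU ⟨_, CfsgLib.PGroup.pow_mem_frattini (hUhp.to_subgroup CU) ⟨a, ha⟩, rfl⟩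
    rw [← map_mul]
    refine Commute.map ?_ _
    have h' := (Subgroup.mem_centralizer_iff.1 h b hb).symm
    show a * a * b = b * (a * a)
    simpa [pow_two] using h'
  set Zc := C ⊓ Subgroup.centralizer (C : Set K) with hZc
  haveI hZn : Zc.Normal := Subgroup.normal_inf_normal _ _
  have hZcomm : ∀ z ∈ Zc, ∀ c ∈ C, Commute z c := fun z hz c hc => centre_comm hz hc
  let A0 : Subgroup K :=
    { carrier := {z | z ∈ Zc ∧ z * z = 1}
      one_mem' := ⟨one_mem _, mul_one 1⟩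
      mul_mem' := fun {a b} ha hb => ⟨mul_mem ha.1 hb.1, by
        rw [mul_assoc, ← mul_assoc b, (hZcomm b hb.1 a ha.1.1).eq, mul_assoc a b, hb.2, mul_one, ha.2]⟩
      inv_mem' := fun {a} ha => ⟨inv_mem ha.1, by rw [← mul_inv_rev, ha.2, inv_one]⟩ }
  have hA0C : A0 ≤ C := fun a ha => ha.1.1
  have hA0n : A0.Normal := ⟨fun a ha h => ⟨hZn.conj_mem a ha.1 h, by
    rw [show h * a * h⁻¹ * (h * a * h⁻¹) = h * (a * a) * h⁻¹ by group, ha.2, mul_one, mul_inv_cancel]⟩⟩
  have hA0comm : ∀ a ∈ A0, ∀ c ∈ C, Commute a c := fun a ha => hZcomm a ha.1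
  have hcomm0 : ∀ c ∈ C, ∀ c' ∈ C, c * c ∈ A0 → ⁅c, c'⁆ ∈ A0 := by
    intro c hc c' hc' h
    obtain ⟨h1, h2⟩ := hCcls c hc c' hc'
    refine ⟨⟨h1, Subgroup.mem_centralizer_iff.2 fun c'' hc'' => (h2 c'' hc'').eq.symm⟩, ?_⟩
    calc ⁅c, c'⁆ * ⁅c, c'⁆ = c * ⁅c, c'⁆ * c⁻¹ * ⁅c, c'⁆ := by
          rw [← (h2 c hc).eq, mul_inv_cancel_right]
      _ = ⁅c * c, c'⁆ := by simp only [commutatorElement_def]; group
      _ = 1 := commutatorElement_eq_one_iff_mul_comm.2 (hA0comm _ h c' hc').eq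
  let M0 : Subgroup K :=
    { carrier := {c | c ∈ C ∧ c * c ∈ A0}
      one_mem' := ⟨one_mem _, by rw [mul_one]; exact one_mem _⟩
      mul_mem' := fun {a b} ha hb => ⟨mul_mem ha.1 hb.1, by
        have h1 := hcomm0 b hb.1 a ha.1 hb.2
        rw [show a * b * (a * b) = a * (⁅b, a⁆ * (a * b)) * b by simp only [commutatorElement_def]; group,
          ← mul_assoc a, ← (hA0comm _ h1 a ha.1).eq,
          show ⁅b, a⁆ * a * (a * b) * b = ⁅b, a⁆ * ((a * a) * (b * b)) by group]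
        exact mul_mem h1 (mul_mem ha.2 hb.2)⟩
      inv_mem' := fun {a} ha => ⟨inv_mem ha.1, by rw [← mul_inv_rev]; exact inv_mem ha.2⟩ }
  have hM0C : M0 ≤ C := fun a ha => ha.1
  haveI hM0n : M0.Normal := ⟨fun a ha h => ⟨hCn.conj_mem a ha.1 h, by
    rw [show h * a * h⁻¹ * (h * a * h⁻¹) = h * (a * a) * h⁻¹ by group]
    exact hA0n.conj_mem _ ha.2 h⟩⟩
  have hA0M0 : A0 ≤ M0 := fun a ha => ⟨ha.1.1, by rw [ha.2]; exact one_mem _⟩
  have hML0 : M0 ≤ L0 := fun a ha => Subgroup.mem_sup_left (hCle ha.1).1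
  have hkM0 : ∀ (j : ℕ), k ^ j ∈ L0 := fun j => pow_mem (Subgroup.mem_sup_right (Subgroup.mem_zpowers k)) j
  set A := P ⊓ A0.comap f with hA
  set M := P ⊓ M0.comap f with hM
  have hMz : M ≤ zfix H := fun m hm => hBlift m hm.1 (hCle hm.2.1).2
  have hAM : A ≤ M := fun a ha => ⟨ha.1, hA0M0 ha.2⟩
  have hA2 : ∀ a ∈ A, a * a = 1 := fun a ha =>
    hinj _ (mul_mem ha.1 ha.1) (by rw [map_mul]; exact ha.2.2)
  have hxA : ∀ a ∈ A, x * a * x⁻¹ ∈ A := fun a ha =>
    ⟨mul_mem (mul_mem hxP ha.1) (P.inv_mem hxP), by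
      show f (x * a * x⁻¹) ∈ A0
      rw [map_mul, map_mul, map_inv]
      exact hA0n.conj_mem _ ha.2 _⟩
  have hxM : ∀ m ∈ M, x * m * x⁻¹ ∈ M := fun m hm =>
    ⟨mul_mem (mul_mem hxP hm.1) (P.inv_mem hxP), by
      show f (x * m * x⁻¹) ∈ M0
      rw [map_mul, map_mul, map_inv]
      exact hM0n.conj_mem _ hm.2 _⟩
  -- `γ` fixes `A0`
  have hyA0 : ∀ a ∈ A0, Commute a y := by
    intro a ha
    obtain ⟨a', ha', rfl⟩ := hlift a (hML0 (hA0M0 ha))
    have h := (commute_elementary D hxEl (hAM.trans hMz) hA2 hxA (a := a') ⟨ha', ha⟩).map f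
    rwa [map_pow, hxk] at h
  have hγA0 : ∀ a ∈ A0, Commute γ a := by
    intro a ha
    have h1 := hyA0 _ (hA0n.conj_mem a ha g⁻¹)
    rw [inv_inv] at h1
    have h2 : Commute a (g * y * g⁻¹) := by
      show a * (g * y * g⁻¹) = g * y * g⁻¹ * a
      calc a * (g * y * g⁻¹) = g * (g⁻¹ * a * g * y) * g⁻¹ := by group
        _ = g * (y * (g⁻¹ * a * g)) * g⁻¹ := by rw [h1.eq]
        _ = g * y * g⁻¹ * a := by group
    rw [hγ, commutatorElement_def]
    exact (h2.mul_right (hyA0 a ha).inv_right).symm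
  -- the action on `M0 / A0`
  let RA : Subgroup M0 := A0.subgroupOf M0
  haveI : RA.Normal := hA0n.subgroupOf M0
  letI : CommGroup (M0 ⧸ RA) := { (inferInstance : Group (M0 ⧸ RA)) with
    mul_comm := fun u v => by
      obtain ⟨c, rfl⟩ := QuotientGroup.mk_surjective u
      obtain ⟨c', rfl⟩ := QuotientGroup.mk_surjective v
      rw [← commutatorElement_eq_one_iff_mul_comm]
      exact (QuotientGroup.eq_one_iff _).2 (Subgroup.mem_subgroupOf.2 (hcomm0 _ c.2.1 _ c'.2.1 c.2.2)) }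
  have hexp : ∀ v : M0 ⧸ RA, v ^ 2 = 1 := fun v => by
    obtain ⟨c, rfl⟩ := QuotientGroup.mk_surjective v
    refine (QuotientGroup.eq_one_iff _).2 (Subgroup.mem_subgroupOf.2 ?_)
    rw [SubmonoidClass.coe_pow, pow_two]
    exact c.2.2
  obtain ⟨mV, F, hF⟩ := exists_rep_ring hexp
  let cj : K → (M0 ⧸ RA →* M0 ⧸ RA) := fun h => QuotientGroup.map RA RA
    (MulAut.conjNormal (H := M0) h).toMonoidHom (fun a ha => Subgroup.mem_comap.2 (Subgroup.mem_subgroupOf.2 (by
      show (MulAut.conjNormal h a : K) ∈ A0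
      rw [MulAut.conjNormal_apply]
      exact hA0n.conj_mem _ (Subgroup.mem_subgroupOf.1 ha) h)))
  let ψ : K →* AddMonoid.End (Additive (M0 ⧸ RA)) :=
    { toFun := fun h => MonoidHom.toAdditive (cj h)
      map_one' := DFunLike.ext _ _ fun v => by
        obtain ⟨c, hc⟩ := QuotientGroup.mk_surjective v.toMul
        obtain rfl : Additive.ofMul (c : M0 ⧸ RA) = v := congrArg Additive.ofMul hc
        exact congrArg (fun t : M0 => Additive.ofMul (t : M0 ⧸ RA)) (Subtype.ext (by simp))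
      map_mul' := fun h h' => DFunLike.ext _ _ fun v => by
        obtain ⟨c, hc⟩ := QuotientGroup.mk_surjective v.toMul
        obtain rfl : Additive.ofMul (c : M0 ⧸ RA) = v := congrArg Additive.ofMul hc
        exact congrArg (fun t : M0 => Additive.ofMul (t : M0 ⧸ RA))
          (Subtype.ext (by simp [MulAut.conjNormal_apply, mul_assoc])) }
  have hψ : ∀ (h : K) (c : M0), ψ h (Additive.ofMul (c : M0 ⧸ RA)) =
      Additive.ofMul ((MulAut.conjNormal (H := M0) h c : M0) : M0 ⧸ RA) := fun h c => rfl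
  let τ : K →* Module.End (Fbar 2) (Fin mV → Fbar 2) := (F : _ →* _).comp ψ
  have hnilp : (τ k - 1) ^ (2 ^ e + (2 ^ (e - 1) - 1)) = 0 := by
    rw [pow_add, sub_one_pow_two_pow (K := Fbar 2), CfsgLib.HallHigman.sub_one_pow_pred (K := Fbar 2)]
    have hz : (ψ y - 1) * ∑ j ∈ Finset.range (2 ^ (e - 1)), ψ (k ^ j) = 0 := by
      refine DFunLike.ext _ _ fun v => ?_
      obtain ⟨c, hc⟩ := QuotientGroup.mk_surjective v.toMul
      obtain rfl : Additive.ofMul (c : M0 ⧸ RA) = v := congrArg Additive.ofMul hc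
      have hsum : ∀ N : ℕ, ∃ w : M0, (w : K) = ((c : K) * k) ^ N * (k ^ N)⁻¹ ∧
          (∑ j ∈ Finset.range N, ψ (k ^ j)) (Additive.ofMul (c : M0 ⧸ RA)) = Additive.ofMul (w : M0 ⧸ RA) := by
        intro N
        induction N with
        | zero => exact ⟨1, by simp, rfl⟩
        | succ N ih =>
          obtain ⟨w, hw, hs⟩ := ih
          refine ⟨w * MulAut.conjNormal (k ^ N) c, ?_, ?_⟩
          · rw [Subgroup.coe_mul, hw, MulAut.conjNormal_apply, pow_succ, pow_succ]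
            group
          · rw [Finset.sum_range_succ]
            show (∑ j ∈ Finset.range N, ψ (k ^ j)) (Additive.ofMul (c : M0 ⧸ RA)) +
              ψ (k ^ N) (Additive.ofMul (c : M0 ⧸ RA)) = _
            rw [hs, hψ]
            rfl
      obtain ⟨w, hw, hs⟩ := hsum (2 ^ (e - 1))
      obtain ⟨b, hbP, hbc⟩ := hlift c (hML0 c.2)
      have hcom := (commute_half D he hxEl hMz (hPp.to_le inf_le_left) hAM hA2
        (fun a ha m hm => by
          refine hinjeq _ (mul_mem ha.1 hm.1) _ (mul_mem hm.1 ha.1) ?_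
          rw [map_mul, map_mul]
          exact (hA0comm _ ha.2 _ hm.2.1).eq)
        (fun m hm => ⟨mul_mem hm.1 hm.1, by show f (m * m) ∈ A0; rw [map_mul]; exact hm.2.2⟩)
        (fun m hm m' hm' => ⟨mul_mem (mul_mem (mul_mem hm.1 hm'.1) (P.inv_mem hm.1)) (P.inv_mem hm'.1), by
          show f ⁅m, m'⁆ ∈ A0
          rw [map_commutatorElement]
          exact hcomm0 _ hm.2.1 _ hm'.2.1 hm.2.2⟩)
        hxA hxM (b := b) ⟨hbP, by show f b ∈ M0; rw [hbc]; exact c.2⟩).map f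
      simp only [map_pow, map_mul, map_inv, hxk, hbc, ← hy, ← hw] at hcom
      show (ψ y - 1) ((∑ j ∈ Finset.range (2 ^ (e - 1)), ψ (k ^ j)) _) = 0
      rw [hs]
      show ψ y (Additive.ofMul (w : M0 ⧸ RA)) - Additive.ofMul (w : M0 ⧸ RA) = 0
      rw [sub_eq_zero, hψ, show MulAut.conjNormal y w = w from Subtype.ext (by
        rw [MulAut.conjNormal_apply, hcom.eq, mul_inv_cancel_right])]
    have := congrArg F hz
    rw [map_mul, map_zero, map_sub, map_one, map_sum] at this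
    simpa [τ, hy, map_pow] using this
  have hγV : ψ γ = 1 := by
    refine hF ?_
    have hcg : Commute (τ g) (τ y) := by
      by_contra hnc
      have hkN : k ^ 2 ^ (e + 1) = 1 := by
        rw [← hxk, ← map_pow, D.pow x hxEl, map_one]
      rcases CfsgLib.HallHigman.theoremB 2 q (Ne.symm hq2) τ S k (e + 1) _ hS hkS hkN (by omega)
        ⟨g, hg, by simpa [hy] using hnc⟩ hnilp with h | ⟨n₀, m, h1, h2, h3, h4, -, -, h7⟩
      · have : 2 ^ (e + 1) = 2 * 2 ^ (e - 1) + 2 ^ e := by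
          rw [← pow_succ', Nat.sub_add_cancel he, ← two_mul, ← pow_succ']
        have := Nat.two_pow_pos (e - 1)
        omega
      · have hn2 : 2 ≤ n₀ := by
          by_contra hlt
          rw [show n₀ = 1 by omega] at h4
          have : 2 ^ 1 ≤ q ^ m := (Nat.pow_le_pow_left hq.out.two_le 1).trans (Nat.pow_le_pow_right hq.out.pos h3)
          norm_num at h4 this
          omega
        have hsplit : 2 ^ (e + 1 - n₀) * 2 ^ n₀ = 2 ^ (e + 1) := by
          rw [← pow_add, Nat.sub_add_cancel h2]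
        have h5 : 2 ^ (e + 1 - n₀) ≤ 2 ^ (e - 1) := Nat.pow_le_pow_right two_pos (by omega)
        have : 2 ^ (e + 1) = 2 * 2 ^ (e - 1) + 2 ^ e := by
          rw [← pow_succ', Nat.sub_add_cancel he, ← two_mul, ← pow_succ']
        have : 2 ^ e = 2 * 2 ^ (e - 1) := by rw [← pow_succ', Nat.sub_add_cancel he]
        rw [Nat.mul_sub, mul_one, hsplit] at h7
        have := Nat.two_pow_pos (e - 1)
        generalize 2 ^ (e + 1) = E2, 2 ^ e = E1, 2 ^ (e - 1) = E0, 2 ^ (e + 1 - n₀) = X at *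
        omega
    show τ γ = F 1
    rw [map_one, hγ, commutatorElement_def, map_mul, map_mul, map_mul, hcg.eq, mul_assoc (τ y) (τ g),
      ← map_mul τ g g⁻¹, mul_inv_cancel, map_one, mul_one, ← map_mul, mul_inv_cancel, map_one]
  -- up the chain
  have hp2 : ∀ u ∈ U, IsPEl 2 u := fun u hu => IsPEl.of_isPGroup hUp hu
  have hγM0 : ∀ c ∈ M0, Commute γ c := by
    intro c hc
    have h1 := DFunLike.congr_fun hγV (Additive.ofMul ((⟨c, hc⟩ : M0) : M0 ⧸ RA))
    have h2 : γ * c * γ⁻¹ * c⁻¹ ∈ A0 := by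
      have h3 := Additive.ofMul.injective ((hψ γ ⟨c, hc⟩).symm.trans h1)
      rw [← mul_inv_eq_one, ← QuotientGroup.mk_inv, ← QuotientGroup.mk_mul, QuotientGroup.eq_one_iff,
        Subgroup.mem_subgroupOf] at h3
      simpa [MulAut.conjNormal_apply] using h3
    have h3 := eq_one_of_step ho hodd (hp2 _ (hCle (hA0C h2)).1) (hγA0 _ h2) (inv_mul_cancel_right _ c).symm
    exact mul_inv_eq_iff_eq_mul.1 (mul_inv_eq_one.1 h3)
  have hγZ : ∀ z ∈ Zc, Commute γ z := by
    suffices h : ∀ i : ℕ, ∀ z ∈ Zc, z ^ 2 ^ i = 1 → Commute γ z from fun z hz =>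
      (hp2 z (hCle hz.1).1).elim fun i hi => h i z hz hi
    intro i
    induction i with
    | zero => intro z _ hz; rw [pow_zero, pow_one] at hz; rw [hz]; exact Commute.one_right γ
    | succ i ih =>
      intro z hz hzi
      have hsq := ih (z * z) (mul_mem hz hz) (by rw [← pow_two, ← pow_mul, ← pow_succ', hzi])
      have h1 : γ * z * γ⁻¹ ∈ Zc := hZn.conj_mem z hz γ
      have hw : γ * z * γ⁻¹ * z⁻¹ ∈ A0 := ⟨mul_mem h1 (inv_mem hz), by
        have hc := hZcomm z⁻¹ (inv_mem hz) (γ * z * γ⁻¹) h1.1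
        calc γ * z * γ⁻¹ * z⁻¹ * (γ * z * γ⁻¹ * z⁻¹)
            = γ * z * γ⁻¹ * (z⁻¹ * (γ * z * γ⁻¹)) * z⁻¹ := by group
          _ = γ * (z * z) * γ⁻¹ * (z * z)⁻¹ := by rw [hc.eq]; group
          _ = 1 := by rw [hsq.eq]; group⟩
      exact mul_inv_eq_iff_eq_mul.1 (mul_inv_eq_one.1
        (eq_one_of_step ho hodd (hp2 _ (hCle (hA0C hw)).1) (hγA0 _ hw) (inv_mul_cancel_right _ z).symm))
  have hγC : ∀ c ∈ C, Commute γ c := by
    intro c hc
    set w := γ * c * γ⁻¹ * c⁻¹ with hw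
    have hwC : w ∈ C := mul_mem (hCn.conj_mem c hc γ) (inv_mem hc)
    have hcc : c * c ∈ Zc := ⟨mul_mem hc hc,
      Subgroup.mem_centralizer_iff.2 fun b hb => (hCsq c hc b hb).eq.symm⟩
    have h1 : w * c * (w * c) = c * c := by
      rw [hw, inv_mul_cancel_right,
        show γ * c * γ⁻¹ * (γ * c * γ⁻¹) = γ * (c * c) * γ⁻¹ by group, (hγZ _ hcc).eq, mul_inv_cancel_right]
    have h2 : ⁅c, w⁆ = (w * w)⁻¹ := by
      have h3 : w * (c * w * c⁻¹) = 1 := by
        rw [show w * (c * w * c⁻¹) = w * c * (w * c) * (c⁻¹ * c⁻¹) by group, h1]; group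
      calc ⁅c, w⁆ = w⁻¹ * (w * (c * w * c⁻¹)) * w⁻¹ := by simp only [commutatorElement_def]; group
        _ = w⁻¹ * 1 * w⁻¹ := by rw [h3]
        _ = (w * w)⁻¹ := by group
    obtain ⟨h3, h4⟩ := hCcls c hc w hwC
    have hww : w * w ∈ Zc := by
      have : ⁅c, w⁆ ∈ Zc := ⟨h3, Subgroup.mem_centralizer_iff.2 fun b hb => (h4 b hb).eq.symm⟩
      rw [h2] at this
      exact inv_mem_iff.1 this
    have hwM : w ∈ M0 := ⟨hwC, hww, by
      have h5 : ⁅c, w⁆ * ⁅c, w⁆ = 1 := by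
        calc ⁅c, w⁆ * ⁅c, w⁆ = c * ⁅c, w⁆ * c⁻¹ * ⁅c, w⁆ := by
              rw [← (h4 c hc).eq, mul_inv_cancel_right]
          _ = ⁅c * c, w⁆ := by simp only [commutatorElement_def]; group
          _ = 1 := commutatorElement_eq_one_iff_mul_comm.2 (hCsq c hc w hwC).eq
      rw [h2, ← mul_inv_rev, inv_eq_one] at h5
      exact h5⟩
    exact mul_inv_eq_iff_eq_mul.1 (mul_inv_eq_one.1
      (eq_one_of_step ho hodd (hp2 _ (hCle hwC).1) (hγM0 _ hwM) (inv_mul_cancel_right _ c).symm))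
  have hγUh : ∀ u ∈ Uh, Commute γ u := by
    have ha : MulAut.conjNormal (H := Uh) γ = 1 := by
      refine Cfsg.Agent.S0121.result hUhp CU hCU h1CU h2CU h3CU _ ?_ fun c hc => Subtype.ext ?_
      · exact Nat.Coprime.coprime_dvd_left
          ((orderOf_map_dvd _ γ).trans (orderOf_dvd_of_pow_eq_one ho)) (Nat.coprime_two_right.2 hodd)
      · rw [MulAut.conjNormal_apply, (hγC (c : K) ⟨c, hc, rfl⟩).eq, mul_inv_cancel_right]
    intro u hu
    have h1 := congrArg Subtype.val (DFunLike.congr_fun ha (⟨u, hu⟩ : Uh))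
    rw [MulAut.conjNormal_apply, MulAut.one_apply] at h1
    exact mul_inv_eq_iff_eq_mul.1 h1
  refine Subgroup.mem_centralizer_iff.2 fun u hu => ?_
  have hw : γ * u * γ⁻¹ * u⁻¹ ∈ Uh := ⟨mul_mem (hUn.conj_mem u hu γ) (U.inv_mem hu), by
    rw [show γ * u * γ⁻¹ * u⁻¹ = γ * (u * γ⁻¹ * u⁻¹) by group]
    exact mul_mem hγB (hBn.conj_mem _ (inv_mem hγB) u)⟩
  exact (mul_inv_eq_iff_eq_mul.1 (mul_inv_eq_one.1
    (eq_one_of_step ho hodd (hp2 _ hw.1) (hγUh _ hw) (inv_mul_cancel_right _ u).symm))).symm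

/-- The second quotient has smaller exponent. -/
theorem two_step (D : SmallDeg ρ e) (he : 1 ≤ e) :
    ∃ (H₂ : Type u) (_ : Group H₂) (_ : Finite H₂) (f : H →* H₂), Function.Surjective f ∧
      f.ker = pPrimePCore 2 H ∧ CfsgLib.FGS68.ExpLE 2 e H₂ := by
  classical
  haveI : Fact (Nat.Prime 2) := ⟨Nat.prime_two⟩
  haveI : (pPrimeCore 2 H).Normal := CfsgLib.Solvable.pPrimeCore_normal 2 H
  set K := H ⧸ pPrimeCore 2 H
  let f₁ : H →* K := QuotientGroup.mk' _
  have hs1 : Function.Surjective f₁ := QuotientGroup.mk'_surjective _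
  have hker1 : (Nat.card f₁.ker).Coprime 2 := by
    rw [QuotientGroup.ker_mk']; exact CfsgLib.PLoc.pPrimeCore_coprime 2
  have hsolH : IsPSolvable 2 H := CfsgLib.ThompsonFactor.isPSolvable_of_isSolvable hsol
  have hK : IsPSolvable 2 K := CfsgLib.PLoc.isPSolvable_of_surjective hs1 hsolH
  have hOK : pPrimeCore 2 K = ⊥ := by
    rw [eq_bot_iff]
    intro y hy
    obtain ⟨x, rfl⟩ := hs1 y
    refine Subgroup.mem_bot.2 ((QuotientGroup.eq_one_iff x).2 ?_)
    rw [CfsgLib.PLoc.pPrimeCore_eq_comap hs1 (by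
      rw [QuotientGroup.ker_mk']; exact CfsgLib.PLoc.pPrimeCore_coprime 2)]
    exact hy
  haveI hUn : (pCore 2 K).Normal := CfsgLib.Solvable.pCore_normal 2 K
  set H₂ := K ⧸ pCore 2 K
  let π : K →* H₂ := QuotientGroup.mk' _
  have hπ : Function.Surjective π := QuotientGroup.mk'_surjective _
  have hker : (π.comp f₁).ker = pPrimePCore 2 H := by
    rw [← MonoidHom.comap_ker, QuotientGroup.ker_mk', pPrimePCore]
  have hsurj : Function.Surjective (π.comp f₁) := hπ.comp hs1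
  refine ⟨H₂, inferInstance, inferInstance, π.comp f₁, hsurj, hker, fun x hx => ?_⟩
  have hxn : x ^ 2 ^ (e + 1) = 1 := by
    obtain ⟨h, hh, rfl⟩ := CfsgLib.FGS68.exists_pElement_lift (π.comp f₁) hsurj hx
    rw [← map_pow, D.pow h hh, map_one]
  have key := eq_one_of_centralizes (p := 2) (CfsgLib.PLoc.isPSolvable_of_surjective hπ hK)
    (pCore_eq_bot_of_ker hsurj hker) (x := x) (n := e + 1) hxn ?_
  · simpa using key
  intro q hq hq2 Q _ hQ hinv g hg
  haveI := Fact.mk hq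
  -- a normalizing lift
  set Qc := Q.comap π with hQc
  let fQ : Qc →* Q := (π.comp Qc.subtype).codRestrict Q fun a => a.2
  have hfQ : Function.Surjective fQ := by
    rintro ⟨b, hb⟩
    obtain ⟨a, rfl⟩ := hπ b
    exact ⟨⟨a, hb⟩, rfl⟩
  obtain ⟨S0⟩ : Nonempty (Sylow q Qc) := Sylow.nonempty
  have htop : (S0 : Subgroup Qc).map fQ = ⊤ := by
    rw [← Sylow.coe_mapSurjective hfQ]
    exact ((S0.mapSurjective hfQ).3 (hQ.to_subgroup ⊤) le_top).symm
  set S := (S0 : Subgroup Qc).map Qc.subtype with hS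
  have hliftS : ∀ b ∈ Q, ∃ a ∈ S, π a = b := by
    intro b hb
    obtain ⟨a, ha, hab⟩ := htop.ge (Subgroup.mem_top (⟨b, hb⟩ : Q))
    exact ⟨a, ⟨a, ha, rfl⟩, congrArg Subtype.val hab⟩
  obtain ⟨k₀, hk₀⟩ := hπ x
  have hk₀N : k₀ ∈ Subgroup.normalizer (Qc : Set K) := by
    have hx' : x ∈ Subgroup.normalizer (Q : Set H₂) := by
      haveI : Finite Q := inferInstance
      refine Subgroup.mem_normalizer_fintype fun n hn => hinv n hn
    rw [Subgroup.mem_normalizer_iff]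
    intro a
    show π a ∈ Q ↔ π (k₀ * a * k₀⁻¹) ∈ Q
    rw [map_mul, map_mul, map_inv, hk₀]
    exact Subgroup.mem_normalizer_iff.1 hx' (π a)
  obtain ⟨k₁, hk₁N, hk₁⟩ : ∃ k₁ ∈ Subgroup.normalizer (S : Set K), π k₁ = x := by
    let N := Qc.subgroupOf (Subgroup.normalizer (Qc : Set K))
    haveI : N.Normal := Subgroup.normal_in_normalizer
    let eN : N ≃* Qc := Subgroup.subgroupOfEquivOfLe Subgroup.le_normalizer
    let S1 : Sylow q N := S0.comapOfInjective eN.toMonoidHom eN.injective 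
      (fun a _ => ⟨eN.symm a, eN.apply_symm_apply a⟩)
    have h := Sylow.normalizer_sup_eq_top S1
    have hk := h.ge (Subgroup.mem_top (⟨k₀, hk₀N⟩ : Subgroup.normalizer (Qc : Set K)))
    obtain ⟨a, ha, r, hr, har⟩ := Subgroup.mem_sup_of_normal_right.1 hk
    obtain ⟨s, hs, hsr⟩ := hliftS (π r) (Subgroup.mem_subgroupOf.1 hr)
    refine ⟨(a : K) * s, mul_mem ?_ (Subgroup.le_normalizer hs), ?_⟩
    · rw [Subgroup.mem_normalizer_iff] at ha ⊢
      have hmem : ∀ b : Subgroup.normalizer (Qc : Set K),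
          b ∈ (S1 : Subgroup N).map N.subtype ↔ (b : K) ∈ S := by
        intro b
        constructor
        · rintro ⟨c, hc, rfl⟩
          exact ⟨eN c, hc, rfl⟩
        · rintro ⟨c, hc, hcb⟩
          refine ⟨eN.symm c, ?_, Subtype.ext hcb⟩
          show eN (eN.symm c) ∈ (S0 : Subgroup Qc)
          rw [MulEquiv.apply_symm_apply]
          exact hc
      intro b
      constructor
      · intro hb
        have hbN : b ∈ Subgroup.normalizer (Qc : Set K) :=
          Subgroup.le_normalizer (Subgroup.map_subtype_le _ hb)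
        exact (hmem _).1 ((ha ⟨b, hbN⟩).1 ((hmem ⟨b, hbN⟩).2 hb))
      · intro hb
        have hbN : b ∈ Subgroup.normalizer (Qc : Set K) := by
          have h2 := mul_mem (mul_mem (inv_mem a.2) (Subgroup.le_normalizer (Subgroup.map_subtype_le _ hb))) a.2
          simpa [mul_assoc] using h2
        exact (hmem ⟨b, hbN⟩).1 ((ha ⟨b, hbN⟩).2 ((hmem (a * ⟨b, hbN⟩ * a⁻¹)).2 hb))
    · rw [map_mul, hsr, ← map_mul, ← Subgroup.coe_mul, har, hk₀]
  obtain ⟨⟨k, hkz⟩, hk2, hkx⟩ := CfsgLib.FGS68.exists_pElement_lift (p := 2)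
    (π.subgroupMap (Subgroup.zpowers k₁)) (π.subgroupMap_surjective _)
    (y := ⟨x, k₁, Subgroup.mem_zpowers k₁, hk₁⟩) (hx.imp fun j hj => Subtype.ext hj)
  have hkπ : π k = x := congrArg Subtype.val hkx
  have hkS : ∀ a ∈ S, k * a * k⁻¹ ∈ S := fun a ha =>
    (Subgroup.mem_normalizer_iff.1 (Subgroup.zpowers_le.2 hk₁N hkz) a).1 ha
  obtain ⟨g', hg', rfl⟩ := hliftS g hg
  have h1 := commutator_centralizes D he hs1 hker1 (k := k) (hk2.imp fun j hj => congrArg Subtype.val hj)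
    hq2 (S := S) (S0.2.map _) hkS hg'
  have h2 : π ⁅g', k ^ 2 ^ e⁆ = 1 :=
    (QuotientGroup.eq_one_iff _).2 (CfsgLib.PLoc.centralizer_pCore_le_self hK hOK h1)
  rw [map_commutatorElement, map_pow, hkπ] at h2
  rw [Nat.add_sub_cancel]
  exact commutatorElement_eq_one_iff_mul_comm.1 h2

end CfsgLib.GrossTwo
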