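import Cfsg.Agent.Lib.GrossTwo.Moved
import Cfsg.Agent.Lib.PLengthHH.Exceptional
import Cfsg.Agent.Lib.Transfer.Critical
import Cfsg.Agent.Lib.Solvable.Core
import Cfsg.Agent.S0121
import Cfsg.Agent.S3793
import Mathlib

/-!
A solvable group without normal `2`-subgroups with a faithful representation in characteristic two in
which `2`-elements have small degree: the top powers and the groups they act on.
-/

set_option autoImplicit false
set_option linter.style.haveILetI false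
set_option linter.unusedSectionVars false

open Cfsg
open scoped commutatorElement

namespace CfsgLib.GrossTwo

open CfsgLib.ShultGross CfsgLib.PLengthHH

universe u

variable {H : Type u} [Group H] [Finite H]

/-- Conjugation on a core. -/
def conjCore (H : Type u) [Group H] [Finite H] (q : ℕ) [Fact q.Prime] : H →* MulAut ↥(pCore q H) :=
  haveI := CfsgLib.Solvable.pCore_normal (p := q) H
  MulAut.conjNormal

theorem conjCore_apply {q : ℕ} [Fact q.Prime] (g : H) (v : ↥(pCore q H)) :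
    ((conjCore H q g v : ↥(pCore q H)) : H) = g * v * g⁻¹ := by
  haveI := CfsgLib.Solvable.pCore_normal (p := q) H
  exact MulAut.conjNormal_apply g v

/-- A critical subgroup. -/
structure IsCrit {T : Type*} [Group T] (C : Subgroup T) : Prop where
  char : C.Characteristic
  frat : (frattini C).map C.subtype ≤ Subgroup.centralizer (C : Set T)
  comm : ⁅C, (⊤ : Subgroup T)⁆ ≤ C ⊓ Subgroup.centralizer (C : Set T)
  self : Subgroup.centralizer (C : Set T) ≤ C

namespace IsCrit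

variable {T : Type*} [Group T] {C : Subgroup T} (hC : IsCrit C)

include hC

theorem map_mem (α : MulAut T) {x : T} (hx : x ∈ C) : α x ∈ C :=
  Subgroup.characteristic_iff_le_comap.1 hC.char α hx

theorem map_centre (α : MulAut T) {x : T} (hx : x ∈ C ⊓ Subgroup.centralizer (C : Set T)) :
    α x ∈ C ⊓ Subgroup.centralizer (C : Set T) :=
  ⟨hC.map_mem α hx.1, Subgroup.mem_centralizer_iff.2 fun y hy => by
    rw [← MulAut.apply_inv_self _ α y, ← map_mul, ← map_mul,
      Subgroup.mem_centralizer_iff.1 hx.2 _ (hC.map_mem α⁻¹ hy)]⟩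

theorem cls {x y : T} (hx : x ∈ C) (hy : y ∈ C) : ⁅x, y⁆ ∈ C ⊓ Subgroup.centralizer (C : Set T) :=
  hC.comm (Subgroup.commutator_mem_commutator hx (Subgroup.mem_top y))

end IsCrit

theorem centre_comm {T : Type*} [Group T] {C : Subgroup T} {z x : T}
    (hz : z ∈ C ⊓ Subgroup.centralizer (C : Set T)) (hx : x ∈ C) : Commute z x :=
  (Subgroup.mem_centralizer_iff.1 hz.2 x hx).symm

theorem comm_inv_right {T : Type*} [Group T] {C : Subgroup T} {u u' : T} (hu' : u' ∈ C)
    (h : ⁅u', u⁆ ∈ C ⊓ Subgroup.centralizer (C : Set T)) : ⁅u, u'⁻¹⁆ = ⁅u, u'⁆⁻¹ := by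
  rw [commutatorElement_inv, show ⁅u, u'⁻¹⁆ = u'⁻¹ * ⁅u', u⁆ * u' by
    simp only [commutatorElement_def]; group, ← (centre_comm h (inv_mem hu')).eq, inv_mul_cancel_right]

theorem comm_inv_left {T : Type*} [Group T] {C : Subgroup T} {u u' : T} (hu : u ∈ C)
    (h : ⁅u', u⁆ ∈ C ⊓ Subgroup.centralizer (C : Set T)) : ⁅u⁻¹, u'⁆ = ⁅u, u'⁆⁻¹ := by
  rw [commutatorElement_inv, show ⁅u⁻¹, u'⁆ = u⁻¹ * ⁅u', u⁆ * u by
    simp only [commutatorElement_def]; group, ← (centre_comm h (inv_mem hu)).eq, inv_mul_cancel_right]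

theorem comm_mod_centre {T : Type*} [Group T] {C : Subgroup T} {u u' z z' : T} (hu : u ∈ C) (hu' : u' ∈ C)
    (hz : z ∈ C ⊓ Subgroup.centralizer (C : Set T)) (hz' : z' ∈ C ⊓ Subgroup.centralizer (C : Set T)) :
    ⁅u * z, u' * z'⁆ = ⁅u, u'⁆ := by
  have e1 : z * (u' * z') * z⁻¹ = u' * z' := by
    rw [(centre_comm hz (mul_mem hu' hz'.1)).eq, mul_inv_cancel_right]
  have e2 : z' * u⁻¹ * z'⁻¹ = u⁻¹ := by
    rw [(centre_comm hz' (inv_mem hu)).eq, mul_inv_cancel_right]
  calc ⁅u * z, u' * z'⁆ = u * (z * (u' * z') * z⁻¹) * u⁻¹ * (z'⁻¹ * u'⁻¹) := by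
        simp only [commutatorElement_def]; group
    _ = u * u' * (z' * u⁻¹ * z'⁻¹) * u'⁻¹ := by rw [e1]; group
    _ = _ := by rw [e2]; simp only [commutatorElement_def]

/-- The elements centralizing the centres of the critical subgroups of the odd cores. -/
def zfix (H : Type u) [Group H] : Subgroup H :=
  ⨅ (q : ℕ) (_ : q.Prime) (_ : q ≠ 2) (C : Subgroup ↥(pCore q H)) (_ : IsCrit C),
    Subgroup.centralizer (((C ⊓ Subgroup.centralizer (C : Set ↥(pCore q H))).map (pCore q H).subtype :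
      Subgroup H) : Set H)

theorem mem_zfix {g : H} : g ∈ zfix H ↔ ∀ q : ℕ, q.Prime → q ≠ 2 → ∀ C : Subgroup ↥(pCore q H), IsCrit C →
    ∀ v ∈ C ⊓ Subgroup.centralizer (C : Set ↥(pCore q H)), Commute g (v : H) := by
  simp only [zfix, Subgroup.mem_iInf, Subgroup.mem_centralizer_iff]
  constructor
  · intro h q hq hq2 C hC v hv
    exact (h q hq hq2 C hC v ⟨v, hv, rfl⟩).symm
  · rintro h q hq hq2 C hC _ ⟨v, hv, rfl⟩
    exact (h q hq hq2 C hC v hv).eq.symm

theorem zfix_fixes {g : H} (hg : g ∈ zfix H) {q : ℕ} [hq : Fact q.Prime] (hq2 : q ≠ 2)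
    {C : Subgroup ↥(pCore q H)} (hC : IsCrit C) {v : ↥(pCore q H)}
    (hv : v ∈ C ⊓ Subgroup.centralizer (C : Set ↥(pCore q H))) : conjCore H q g v = v :=
  Subtype.ext (by rw [conjCore_apply, (mem_zfix.1 hg q hq.out hq2 C hC v hv).eq, mul_inv_cancel_right])

theorem zfix_normal : (zfix H).Normal := ⟨fun g hg h => mem_zfix.2 fun q hq hq2 C hC v hv => by
  haveI := Fact.mk hq
  have h1 := mem_zfix.1 hg q hq hq2 C hC _ (hC.map_centre (conjCore H q h⁻¹) hv)
  rw [conjCore_apply, inv_inv] at h1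
  show h * g * h⁻¹ * v = v * (h * g * h⁻¹)
  calc h * g * h⁻¹ * v = h * (g * (h⁻¹ * v * h)) * h⁻¹ := by group
    _ = h * (h⁻¹ * v * h * g) * h⁻¹ := by rw [h1.eq]
    _ = v * (h * g * h⁻¹) := by group⟩

/-- A `2`-element of `zfix` trivial on every critical subgroup modulo its centre is trivial. -/
theorem eq_one_of_trivial [hsol : Group.IsSolvable H] (hOp : pCore 2 H = ⊥) {w : H}
    (hw : IsPEl 2 w) (hwB : w ∈ zfix H)
    (h : ∀ (q : ℕ) [Fact q.Prime], q ≠ 2 → ∀ C : Subgroup ↥(pCore q H), IsCrit C → ∀ c ∈ C,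
      c⁻¹ * conjCore H q w c ∈ C ⊓ Subgroup.centralizer (C : Set ↥(pCore q H))) : w = 1 := by
  haveI : Fact (Nat.Prime 2) := ⟨Nat.prime_two⟩
  obtain ⟨k, hk⟩ := hw
  have hwF : w ∈ Subgroup.centralizer (Cfsg.fittingSubgroup H : Set H) := by
    rw [Subgroup.mem_centralizer_iff]
    intro f hf
    have hle : Cfsg.fittingSubgroup H ≤ Subgroup.centralizer ({w} : Set H) := by
      refine (CfsgLib.Solvable.fittingSubgroup_eq_iSup_pCore (G := H)).trans_le (iSup_le fun r x hx => ?_)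
      haveI := Fact.mk (Nat.prime_of_mem_primeFactors r.2)
      rw [Subgroup.mem_centralizer_singleton_iff]
      by_cases hr2 : (r : ℕ) = 2
      · have hx1 : x ∈ pCore 2 H := hr2 ▸ hx
        rw [hOp, Subgroup.mem_bot] at hx1
        rw [hx1, one_mul, mul_one]
      have hT : IsPGroup (r : ℕ) ↥(pCore (r : ℕ) H) := CfsgLib.Solvable.pCore_isPGroup _ H
      obtain ⟨C, hC, h1, h2, h3⟩ := CfsgLib.Transfer.exists_critical hT
      set a := conjCore H r w
      have hak : a ^ 2 ^ k = 1 := by rw [← map_pow, hk, map_one]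
      have hcop : (2 : ℕ).Coprime r := (Nat.coprime_primes Nat.prime_two (Fact.out : (r : ℕ).Prime)).2 (Ne.symm hr2)
      have ha : a = 1 := by
        refine Cfsg.Agent.S0121.result hT C hC h1 h2 h3 a
          (Nat.Coprime.coprime_dvd_left (orderOf_dvd_of_pow_eq_one hak) (hcop.pow_left k)) fun c hc => ?_
        set v := c⁻¹ * a c with hv
        have hfix : a v = v := zfix_fixes hwB hr2 ⟨hC, h1, h2, h3⟩ (h r hr2 C ⟨hC, h1, h2, h3⟩ c hc)
        have hpow : ∀ j : ℕ, (a ^ j) c = c * v ^ j := by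
          intro j
          induction j with
          | zero => simp
          | succ j ih =>
            rw [pow_succ', MulAut.mul_apply, ih, map_mul, map_pow, hfix,
              show a c = c * v by rw [hv]; group, mul_assoc, ← pow_succ']
        have h4 := hpow (2 ^ k)
        rw [hak, MulAut.one_apply, left_eq_mul] at h4
        obtain ⟨l, hl⟩ := hT v
        have h5 := pow_gcd_eq_one.2 ⟨h4, hl⟩
        rw [((hcop.pow_left k).pow_right l).gcd_eq_one, pow_one] at h5
        exact (inv_mul_eq_one.1 h5).symm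
      have h6 := congrArg (fun α : MulAut _ => ((α ⟨x, hx⟩ : ↥(pCore (r : ℕ) H)) : H)) ha
      simp only [MulAut.one_apply, a, conjCore_apply] at h6
      exact (mul_inv_eq_iff_eq_mul.1 h6).symm
    exact Subgroup.mem_centralizer_singleton_iff.1 (hle hf)
  have h7 := Cfsg.Agent.S3793.mem_pCore_of_mem_fitting (s := 2)
    (CfsgLib.Solvable.centralizer_fittingSubgroup_le hwF) ⟨k, hk⟩
  rwa [hOp, Subgroup.mem_bot] at h7

/-- Eigenvectors of a group of commuting involutions span an abelian group of odd exponent. -/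
theorem eigen_span {V : Type*} [CommGroup V] {t : ℕ} (hexp : ∀ v : V, v ^ t = 1) (htodd : Odd t)
    (s : Finset (MulAut V)) (h2 : ∀ a ∈ s, ∀ v, a (a v) = v) (hc : ∀ a ∈ s, ∀ b ∈ s, Commute a b) :
    Subgroup.closure {v : V | ∀ a ∈ s, a v = v ∨ a v = v⁻¹} = ⊤ := by
  classical
  induction s using Finset.induction_on with
  | empty => simp
  | @insert a s has ih =>
    specialize ih (fun b hb => h2 b (Finset.mem_insert_of_mem hb))
      (fun b hb b' hb' => hc b (Finset.mem_insert_of_mem hb) b' (Finset.mem_insert_of_mem hb'))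
    refine top_unique (ih.ge.trans ((Subgroup.closure_le _).2 fun v hv => ?_))
    have haa : ∀ u, a (a u) = u := h2 a (Finset.mem_insert_self a s)
    have hp : ∀ u ∈ ({v * a v, v * (a v)⁻¹} : Set V),
        u ∈ Subgroup.closure {v : V | ∀ b ∈ insert a s, b v = v ∨ b v = v⁻¹} := by
      intro u hu
      refine Subgroup.subset_closure fun b hb => ?_
      rcases Finset.mem_insert.1 hb with rfl | hbs
      · rcases hu with rfl | rfl
        · left; rw [map_mul, haa, mul_comm]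
        · right; rw [map_mul, map_inv, haa, mul_inv, inv_inv, mul_comm]
      have hba : b (a v) = a (b v) := by
        rw [← MulAut.mul_apply, (hc b hb a (Finset.mem_insert_self a s)).eq, MulAut.mul_apply]
      rcases hv b hbs with h | h <;> rcases hu with rfl | rfl
      · left; rw [map_mul, hba, h]
      · left; rw [map_mul, map_inv, hba, h]
      · right; rw [map_mul, hba, h, map_inv, mul_inv]
      · right; rw [map_mul, map_inv, hba, h, map_inv, mul_inv]
    have hsq : v * v ∈ Subgroup.closure {v : V | ∀ b ∈ insert a s, b v = v ∨ b v = v⁻¹} := by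
      have := mul_mem (hp _ (Or.inl rfl)) (hp _ (Or.inr rfl))
      rwa [show v * a v * (v * (a v)⁻¹) = v * v * (a v * (a v)⁻¹) by ac_rfl, mul_inv_cancel, mul_one] at this
    obtain ⟨j, hj⟩ := htodd
    have h := pow_mem hsq (j + 1)
    rwa [← pow_two, ← pow_mul, show 2 * (j + 1) = (2 * j + 1) + 1 by omega, pow_succ, ← hj, hexp,
      one_mul] at h

section Degree

variable [hsol : Group.IsSolvable H] {d : ℕ} (ρ : H →* Module.End (Fbar 2) (Fin d → Fbar 2))
  {e : ℕ}

/-- The standing hypotheses. -/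
structure SmallDeg (ρ : H →* Module.End (Fbar 2) (Fin d → Fbar 2)) (e : ℕ) : Prop where
  hOp : pCore 2 H = ⊥
  inj : Function.Injective ρ
  pow : ∀ x : H, IsPEl 2 x → x ^ 2 ^ (e + 1) = 1
  deg : ∀ x : H, IsPEl 2 x → (ρ x - 1) ^ (2 ^ (e + 1) - 1) = 0

variable {ρ} (D : SmallDeg ρ e)

include D

/-- The top power centralizes an invariant abelian subgroup of odd order. -/
theorem commute_abelian {x : H} (hx : IsPEl 2 x) {q : ℕ} [hq : Fact q.Prime] (hq2 : q ≠ 2)
    {Q : Subgroup H} (hQ : IsPGroup q Q) (hab : ∀ a ∈ Q, ∀ b ∈ Q, Commute a b)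
    (hinv : ∀ g ∈ Q, x * g * x⁻¹ ∈ Q) {g : H} (hg : g ∈ Q) : Commute g (x ^ 2 ^ e) := by
  haveI : Fact (Nat.Prime 2) := ⟨Nat.prime_two⟩
  by_contra hnc
  have hn : ¬ Commute (ρ g) (ρ (x ^ 2 ^ (e + 1 - 1))) := fun h =>
    hnc (commute_of_commute_rep D.inj (by simpa using h))
  rcases CfsgLib.HallHigman.theoremB 2 q (Ne.symm hq2) ρ Q x (e + 1) (2 ^ (e + 1) - 1) hQ hinv
    (D.pow x hx) (by omega) ⟨g, hg, hn⟩ (D.deg x hx) with h | ⟨n₀, m, -, -, -, -, -, h6, -⟩
  · have := Nat.two_pow_pos (e + 1)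
    omega
  · exact h6 fun a ha b hb => (hab a ha b hb).map ρ

theorem top_mem_zfix {x : H} (hx : IsPEl 2 x) : x ^ 2 ^ e ∈ zfix H := by
  refine mem_zfix.2 fun q hq hq2 C hC v hv => ?_
  haveI := Fact.mk hq
  set Q := (C ⊓ Subgroup.centralizer (C : Set ↥(pCore q H))).map (pCore q H).subtype
  refine (commute_abelian D hx hq2 (Q := Q) (((CfsgLib.Solvable.pCore_isPGroup q H).to_subgroup _).map _)
    ?_ ?_ (g := v) ⟨v, hv, rfl⟩).symm
  · rintro _ ⟨a, ha, rfl⟩ _ ⟨b, hb, rfl⟩
    exact (centre_comm ha hb.1).map (pCore q H).subtype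
  · rintro _ ⟨a, ha, rfl⟩
    exact ⟨conjCore H q x a, hC.map_centre _ ha, conjCore_apply x a⟩

omit D in
theorem conj_pow_mem {S : Subgroup H} {x : H} (h : ∀ a ∈ S, x * a * x⁻¹ ∈ S) :
    ∀ (k : ℕ), ∀ a ∈ S, x ^ k * a * (x ^ k)⁻¹ ∈ S := by
  intro k
  induction k with
  | zero => intro a ha; simpa using ha
  | succ k ih =>
    intro a ha
    rw [pow_succ', mul_inv_rev, show x * x ^ k * a * ((x ^ k)⁻¹ * x⁻¹) = x * (x ^ k * a * (x ^ k)⁻¹) * x⁻¹ by group]
    exact h _ (ih a ha)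

/-- The top power centralizes an invariant elementary abelian subgroup of `zfix`. -/
theorem commute_elementary {x : H} (hx : IsPEl 2 x) {A : Subgroup H} (hA : A ≤ zfix H)
    (hA2 : ∀ a ∈ A, a * a = 1) (hinv : ∀ a ∈ A, x * a * x⁻¹ ∈ A) {a : H} (ha : a ∈ A) :
    Commute a (x ^ 2 ^ e) := by
  classical
  haveI : Fact (Nat.Prime 2) := ⟨Nat.prime_two⟩
  set N := 2 ^ (e + 1) with hN
  set y := x ^ 2 ^ e with hy
  have hxN : x ^ N = 1 := D.pow x hx
  have hyy : y * y = 1 := by rw [hy, ← pow_add, ← two_mul, ← pow_succ', ← hN, hxN]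
  have hAinv : ∀ (k : ℕ) (b : H), b ∈ A → (x ^ k)⁻¹ * b * x ^ k ∈ A := by
    intro k b hb
    obtain ⟨l, hl⟩ : ∃ l, x ^ k * x ^ l = 1 := by
      refine ⟨N * (k + 1) - k, ?_⟩
      have : k ≤ N * (k + 1) := le_trans (Nat.le_succ k) (Nat.le_mul_of_pos_left _ (Nat.two_pow_pos _))
      rw [← pow_add, Nat.add_sub_cancel' this, pow_mul, hxN, one_pow]
    rw [inv_eq_of_mul_eq_one_right hl, ← inv_inv (x ^ k), inv_eq_of_mul_eq_one_right hl]
    exact conj_pow_mem hinv l b hb
  have hAc : ∀ b ∈ A, ∀ b' ∈ A, Commute b b' := by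
    intro b hb b' hb'
    have h1 := hA2 _ (mul_mem hb hb')
    calc b * b' = (b * b')⁻¹ := (inv_eq_of_mul_eq_one_right h1).symm
      _ = b'⁻¹ * b⁻¹ := mul_inv_rev b b'
      _ = b' * b := by rw [inv_eq_of_mul_eq_one_right (hA2 b hb), inv_eq_of_mul_eq_one_right (hA2 b' hb')]
  set w := ⁅a, y⁆ with hw
  have hyA : ∀ b ∈ A, y * b * y⁻¹ ∈ A := conj_pow_mem hinv (2 ^ e)
  have hwA : w ∈ A := by
    rw [hw, commutatorElement_def, mul_assoc, mul_assoc, ← mul_assoc y]
    exact mul_mem ha (hyA _ (inv_mem ha))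
  refine (commutatorElement_eq_one_iff_mul_comm.1 (eq_one_of_trivial D.hOp ⟨1, ?_⟩ (hA hwA) ?_) : _)
  · rw [pow_one, pow_two]; exact hA2 w hwA
  intro q hq hq2 C hC
  set T := ↥(pCore q H)
  set Z := C ⊓ Subgroup.centralizer (C : Set T)
  let R : Subgroup C := Z.subgroupOf C
  haveI : R.Normal := ⟨fun v hv g => Subgroup.mem_subgroupOf.2 (by
    have h1 := Subgroup.mem_subgroupOf.1 hv
    show (g : T) * v * (g : T)⁻¹ ∈ Z
    rw [(centre_comm h1 g.2).symm.eq, mul_inv_cancel_right]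
    exact h1)⟩
  letI : CommGroup (C ⧸ R) := { (inferInstance : Group (C ⧸ R)) with
    mul_comm := fun u v => by
      obtain ⟨g, rfl⟩ := QuotientGroup.mk_surjective u
      obtain ⟨g', rfl⟩ := QuotientGroup.mk_surjective v
      rw [← commutatorElement_eq_one_iff_mul_comm]
      exact (QuotientGroup.eq_one_iff _).2 (Subgroup.mem_subgroupOf.2 (hC.cls g.2 g'.2)) }
  have hT : IsPGroup q T := CfsgLib.Solvable.pCore_isPGroup q H
  have hexp : ∀ v : C ⧸ R, v ^ q = 1 := fun v => by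
    obtain ⟨g, rfl⟩ := QuotientGroup.mk_surjective v
    refine (QuotientGroup.eq_one_iff _).2 (Subgroup.mem_subgroupOf.2 ⟨(g ^ q).2, ?_⟩)
    exact hC.frat ⟨_, CfsgLib.PGroup.pow_mem_frattini (hT.to_subgroup C) g, rfl⟩
  let res : ∀ α : MulAut T, C →* C := fun α =>
    { toFun := fun v => ⟨α v, hC.map_mem α v.2⟩
      map_one' := Subtype.ext (map_one α)
      map_mul' := fun u v => Subtype.ext (map_mul α _ _) }
  let g : H → (C ⧸ R →* C ⧸ R) := fun h => QuotientGroup.map R R (res (conjCore H q h))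
    (fun _ hv => Subgroup.mem_comap.2 (Subgroup.mem_subgroupOf.2 (hC.map_centre _ (Subgroup.mem_subgroupOf.1 hv))))
  have hgmul : ∀ (h h' : H) (v : C ⧸ R), g (h * h') v = g h (g h' v) := fun h h' v => by
    obtain ⟨c, rfl⟩ := QuotientGroup.mk_surjective v
    refine congrArg QuotientGroup.mk (Subtype.ext ?_)
    show conjCore H q (h * h') (c : T) = _
    rw [map_mul]
    rfl
  have hgone : ∀ v : C ⧸ R, g 1 v = v := fun v => by
    obtain ⟨c, rfl⟩ := QuotientGroup.mk_surjective v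
    refine congrArg QuotientGroup.mk (Subtype.ext ?_)
    show conjCore H q 1 (c : T) = _
    rw [map_one]
    rfl
  let f : H →* MulAut (C ⧸ R) :=
    { toFun := fun h =>
        { toFun := g h
          invFun := g h⁻¹
          left_inv := fun v => by rw [← hgmul, inv_mul_cancel, hgone]
          right_inv := fun v => by rw [← hgmul, mul_inv_cancel, hgone]
          map_mul' := map_mul (g h) }
      map_one' := MulEquiv.ext hgone
      map_mul' := fun h h' => MulEquiv.ext (hgmul h h') }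
  have hf : ∀ (h : H) (c : C), f h (c : C ⧸ R) = ((res (conjCore H q h) c : C) : C ⧸ R) := fun _ _ => rfl
  let Eig : C ⧸ R → Prop := fun v => ∀ b ∈ A, f b v = v ∨ f b v = v⁻¹
  let Same : C ⧸ R → C ⧸ R → Prop := fun v v' => ∀ b ∈ A,
    (f b v = v → f b v' = v') ∧ (f b v = v⁻¹ → f b v' = v'⁻¹)
  have hmove : ∀ (k : ℕ) (v : C ⧸ R) (b : H), f b (f (x ^ k) v) = f (x ^ k) (f ((x ^ k)⁻¹ * b * x ^ k) v) := by
    intro k v b
    rw [← MulAut.mul_apply, ← MulAut.mul_apply, ← map_mul, ← map_mul]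
    congr 2
    group
  have hEig : ∀ (k : ℕ) v, Eig v → Eig (f (x ^ k) v) := by
    intro k v hv b hb
    rw [hmove]
    rcases hv _ (hAinv k b hb) with h | h
    · left; rw [h]
    · right; rw [h, map_inv]
  have hSameMap : ∀ (k : ℕ) v v', Same v v' → Same (f (x ^ k) v) (f (x ^ k) v') := by
    intro k v v' h b hb
    rw [hmove, hmove]
    exact ⟨fun e1 => by rw [(h _ (hAinv k b hb)).1 ((f (x ^ k)).injective e1)],
      fun e1 => by
        rw [← map_inv] at e1
        rw [(h _ (hAinv k b hb)).2 ((f (x ^ k)).injective e1), map_inv]⟩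
  have hfyy : ∀ v, f y (f y v) = v := fun v => by rw [← MulAut.mul_apply, ← map_mul, hyy, map_one]; rfl
  have hSame : ∀ v, Eig v → Same v (f y v) → f w v = v := by
    intro v hv hs
    rw [hw, commutatorElement_def, map_mul, map_mul, map_mul,
      inv_eq_of_mul_eq_one_right (hA2 a ha), inv_eq_of_mul_eq_one_right hyy]
    simp only [MulAut.mul_apply]
    rcases hv a ha with h | h
    · rw [(hs a ha).1 h, hfyy, h]
    · rw [(hs a ha).2 h, map_inv, hfyy, map_inv, h, inv_inv]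
  have hkey : ∀ v, Eig v → Same v (f y v) := by
    intro v hv
    by_contra hns
    obtain ⟨c, rfl⟩ := QuotientGroup.mk_surjective v
    -- the orbit generates an abelian group
    set uu : ℕ → T := fun i => conjCore H q (x ^ i) (c : T) with huu
    have huC : ∀ i, uu i ∈ C := fun i => hC.map_mem _ c.2
    have hcomm : ∀ i j, i ≤ j → Commute (uu i) (uu j) := by
      intro i j hij
      by_cases hs : Same (f (x ^ i) c) (f (x ^ j) c)
      · -- equal signs
        obtain ⟨k, rfl⟩ : ∃ k, j = i + k := ⟨j - i, by omega⟩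
        have hk : Same (c : C ⧸ R) (f (x ^ k) c) := by
          intro b hb
          have hb' : x ^ i * b * (x ^ i)⁻¹ ∈ A := conj_pow_mem hinv i b hb
          have h1 := hs _ hb'
          rw [pow_add, map_mul f (x ^ i) (x ^ k), MulAut.mul_apply, hmove, hmove,
            show (x ^ i)⁻¹ * (x ^ i * b * (x ^ i)⁻¹) * x ^ i = b by group] at h1
          exact ⟨fun e1 => (f (x ^ i)).injective (h1.1 (by rw [e1])),
            fun e1 => (f (x ^ i)).injective (by rw [map_inv]; exact h1.2 (by rw [e1, map_inv]))⟩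
        have hmul : ∀ m : ℕ, Same (c : C ⧸ R) (f (x ^ (k * m)) c) := by
          intro m
          induction m with
          | zero => intro b hb; rw [mul_zero, pow_zero, map_one]; exact ⟨id, id⟩
          | succ m ih =>
            intro b hb
            have h1 := hSameMap k _ _ ih b hb
            rw [Nat.mul_succ, add_comm, pow_add, map_mul, MulAut.mul_apply]
            exact ⟨fun e1 => h1.1 ((hk b hb).1 e1), fun e1 => h1.2 ((hk b hb).2 e1)⟩
        have hk0 : k % 2 ^ (e + 1) = 0 := by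
          by_contra hk0
          obtain ⟨l, hl⟩ := exists_pow_eq_pow (N := e) Nat.prime_two (Nat.pos_of_ne_zero hk0)
            (Nat.mod_lt _ (Nat.two_pow_pos _))
          refine hns ?_
          have h1 := hmul l
          rwa [pow_eq_pow_mod _ hxN, hN, Nat.mul_mod, ← Nat.mod_mod k, ← Nat.mul_mod, hl, ← hy] at h1
        have : uu (i + k) = uu i := by
          simp only [huu]
          rw [pow_add, pow_eq_pow_mod k hxN, hN, hk0, pow_zero, mul_one]
        rw [this]
      · -- different signs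
        simp only [Same, not_forall] at hs
        obtain ⟨b, hb, hs⟩ := hs
        set f₀ := ⁅uu i, uu j⁆ with hf0
        have hf0Z : f₀ ∈ Z := hC.cls (huC i) (huC j)
        have hlift : ∀ (u : T) (hu : u ∈ C) (u' : T) (hu' : u' ∈ C),
            f b ((⟨u, hu⟩ : C) : C ⧸ R) = ((⟨u', hu'⟩ : C) : C ⧸ R) →
            ∃ z ∈ Z, conjCore H q b u = u' * z := by
          intro u hu u' hu' h
          rw [hf, eq_comm, QuotientGroup.eq, Subgroup.mem_subgroupOf] at h
          exact ⟨_, h, (mul_inv_cancel_left u' _).symm⟩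
        have hfix : conjCore H q b f₀ = f₀ := zfix_fixes (hA hb) hq2 hC hf0Z
        have hneg : conjCore H q b f₀ = f₀⁻¹ := by
          rw [hf0, map_commutatorElement]
          have hi : ∀ (k : ℕ), f (x ^ k) (c : C ⧸ R) = ((⟨uu k, huC k⟩ : C) : C ⧸ R) := fun k => rfl
          rw [hi i, hi j] at hs
          have hdiff : (f b ((⟨uu i, huC i⟩ : C) : C ⧸ R) = ((⟨uu i, huC i⟩ : C) : C ⧸ R) ∧
              f b ((⟨uu j, huC j⟩ : C) : C ⧸ R) = ((⟨(uu j)⁻¹, inv_mem (huC j)⟩ : C) : C ⧸ R)) ∨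
              (f b ((⟨uu i, huC i⟩ : C) : C ⧸ R) = ((⟨(uu i)⁻¹, inv_mem (huC i)⟩ : C) : C ⧸ R) ∧
              f b ((⟨uu j, huC j⟩ : C) : C ⧸ R) = ((⟨uu j, huC j⟩ : C) : C ⧸ R)) := by
            rcases not_and_or.1 hs with hs | hs <;> obtain ⟨h1, h2⟩ := Classical.not_imp.1 hs
            · exact Or.inl ⟨h1, ((hEig j c hv b hb).resolve_left h2).trans rfl⟩
            · exact Or.inr ⟨h1.trans rfl, (hEig j c hv b hb).resolve_right h2⟩
          rcases hdiff with ⟨h1, h2⟩ | ⟨h1, h2⟩ <;> obtain ⟨z, hz, e1⟩ := hlift _ _ _ _ h1 <;>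
            obtain ⟨z', hz', e2⟩ := hlift _ _ _ _ h2 <;> rw [e1, e2]
          · rw [comm_mod_centre (huC i) (inv_mem (huC j)) hz hz', comm_inv_right (huC j) (hC.cls (huC j) (huC i))]
          · rw [comm_mod_centre (inv_mem (huC i)) (huC j) hz hz', comm_inv_left (huC i) (hC.cls (huC j) (huC i))]
        have hinv' : f₀⁻¹ = f₀ := hneg.symm.trans hfix
        refine commutatorElement_eq_one_iff_mul_comm.1 ?_
        have h2 : f₀ ^ 2 = 1 := by
          rw [pow_two]
          nth_rw 1 [← hinv']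
          exact inv_mul_cancel f₀
        obtain ⟨l, hl⟩ := hT f₀
        have h3 := pow_gcd_eq_one.2 ⟨h2, hl⟩
        rwa [(((Nat.coprime_primes Nat.prime_two hq.out).2 (Ne.symm hq2)).pow_right l).gcd_eq_one,
          pow_one] at h3
    let Dsub : Subgroup H := Subgroup.closure (Set.range fun i => ((uu i : T) : H))
    have hDle : Dsub ≤ pCore q H := (Subgroup.closure_le _).2 (by rintro _ ⟨i, rfl⟩; exact (uu i).2)
    have hDab : ∀ s ∈ Dsub, ∀ s' ∈ Dsub, Commute s s' := by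
      have h1 : Dsub ≤ Subgroup.centralizer (Set.range fun i => ((uu i : T) : H)) := by
        refine (Subgroup.closure_le _).2 ?_
        rintro _ ⟨i, rfl⟩
        refine Subgroup.mem_centralizer_iff.2 ?_
        rintro _ ⟨j, rfl⟩
        rcases le_total i j with h | h
        · exact congrArg Subtype.val (hcomm i j h).eq.symm
        · exact congrArg Subtype.val (hcomm j i h).eq
      intro s hs s' hs'
      have h2 : Dsub ≤ Subgroup.centralizer ({s} : Set H) := by
        refine (Subgroup.closure_le _).2 fun r hr => Subgroup.mem_centralizer_singleton_iff.2 ?_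
        exact Subgroup.mem_centralizer_iff.1 (h1 hs) r hr
      exact (Subgroup.mem_centralizer_singleton_iff.1 (h2 hs')).symm
    have hDinv : ∀ s ∈ Dsub, x * s * x⁻¹ ∈ Dsub := by
      intro s hs
      have h1 : Dsub ≤ Dsub.comap (MulAut.conj x).toMonoidHom := by
        refine (Subgroup.closure_le _).2 ?_
        rintro _ ⟨i, rfl⟩
        refine Subgroup.subset_closure ⟨i + 1, ?_⟩
        show ((uu (i + 1) : T) : H) = x * (uu i : T) * x⁻¹
        simp only [huu, conjCore_apply]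
        rw [pow_succ']
        group
      exact h1 hs
    have h1 := commute_abelian D hx hq2 ((CfsgLib.Solvable.pCore_isPGroup q H).to_le hDle) hDab hDinv
      (g := ((c : T) : H)) (Subgroup.subset_closure ⟨0, by simp [huu]⟩)
    have h2 : f y (c : C ⧸ R) = c := by
      refine congrArg QuotientGroup.mk (Subtype.ext (Subtype.ext ?_))
      show ((conjCore H q y (c : T) : T) : H) = _
      rw [conjCore_apply, h1.symm.eq, mul_inv_cancel_right]
    rw [h2] at hns
    exact hns fun b _ => ⟨id, id⟩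
  haveI : Fintype A := Fintype.ofFinite A
  have hgen := eigen_span hexp (hq.out.odd_of_ne_two hq2) (Finset.univ.image fun b : A => f b)
    (fun α hα v => by
      obtain ⟨b, -, rfl⟩ := Finset.mem_image.1 hα
      rw [← MulAut.mul_apply, ← map_mul, hA2 _ b.2, map_one]
      rfl)
    (fun α hα β hβ => by
      obtain ⟨b, -, rfl⟩ := Finset.mem_image.1 hα
      obtain ⟨b', -, rfl⟩ := Finset.mem_image.1 hβ
      exact (hAc b b.2 b' b'.2).map f)
  intro c hc
  have hall : Subgroup.closure {v : C ⧸ R | ∀ α ∈ Finset.univ.image (fun b : A => f b), α v = v ∨ α v = v⁻¹} ≤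
      (f w).toMonoidHom.eqLocus (MonoidHom.id _) := by
    refine (Subgroup.closure_le _).2 fun v hv => ?_
    have hv' : Eig v := fun b hb => hv _ (Finset.mem_image.2 ⟨⟨b, hb⟩, Finset.mem_univ _, rfl⟩)
    exact hSame v hv' (hkey v hv')
  rw [hgen] at hall
  have h1 : f w ((⟨c, hc⟩ : C) : C ⧸ R) = ((⟨c, hc⟩ : C) : C ⧸ R) := hall (Subgroup.mem_top _)
  rw [hf, eq_comm, QuotientGroup.eq, Subgroup.mem_subgroupOf] at h1
  exact h1

/-- The half power of a product with `M`, corrected, commutes with the top power. -/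
theorem commute_half {x : H} (he : 1 ≤ e) (hx : IsPEl 2 x) {A M : Subgroup H} (hM : M ≤ zfix H)
    (hMp : IsPGroup 2 M) (hAM : A ≤ M) (hA2 : ∀ a ∈ A, a * a = 1) (hAc : ∀ a ∈ A, ∀ m ∈ M, Commute a m)
    (hM2 : ∀ m ∈ M, m * m ∈ A) (hMc : ∀ m ∈ M, ∀ m' ∈ M, ⁅m, m'⁆ ∈ A)
    (hxA : ∀ a ∈ A, x * a * x⁻¹ ∈ A) (hxM : ∀ m ∈ M, x * m * x⁻¹ ∈ M) {b : H} (hb : b ∈ M) :
    Commute (x ^ 2 ^ e) ((b * x) ^ 2 ^ (e - 1) * (x ^ 2 ^ (e - 1))⁻¹) := by
  classical
  haveI : Fact (Nat.Prime 2) := ⟨Nat.prime_two⟩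
  have hmemM : ∀ k : ℕ, (b * x) ^ k * (x ^ k)⁻¹ ∈ M := by
    intro k
    induction k with
    | zero => simp [one_mem]
    | succ k ih =>
      rw [pow_succ, pow_succ, show (b * x) ^ k * (b * x) * (x ^ k * x)⁻¹ =
        (b * x) ^ k * (x ^ k)⁻¹ * (x ^ k * b * (x ^ k)⁻¹) by group]
      exact mul_mem ih (conj_pow_mem hxM k b hb)
  have hxN := D.pow x hx
  have hbxEl : IsPEl 2 (b * x) := by
    have h := hmemM (2 ^ (e + 1))
    rw [hxN, inv_one, mul_one] at h
    obtain ⟨l, hl⟩ := IsPEl.of_isPGroup hMp h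
    exact ⟨e + 1 + l, by rw [pow_add, pow_mul, hl]⟩
  set y := x ^ 2 ^ e with hy
  set β := (b * x) ^ 2 ^ (e - 1) * (x ^ 2 ^ (e - 1))⁻¹ with hβ
  have hβM : β ∈ M := hmemM _
  set w := ⁅y, β⁆ with hw
  have hwM : w ∈ M := mul_mem (conj_pow_mem hxM (2 ^ e) β hβM) (inv_mem hβM)
  refine commutatorElement_eq_one_iff_mul_comm.1
    (eq_one_of_trivial D.hOp (IsPEl.of_isPGroup hMp hwM) (hM hwM) ?_)
  intro q hq hq2 C hC
  haveI : C.Characteristic := hC.char
  set T := ↥(pCore q H)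
  intro c hc
  have hT : IsPGroup q T := CfsgLib.Solvable.pCore_isPGroup q H
  have hwC : c⁻¹ * conjCore H q w c ∈ C := mul_mem (inv_mem hc) (hC.map_mem _ hc)
  by_contra hno
  obtain ⟨d', hd', hcd⟩ : ∃ d' ∈ C, ⁅c⁻¹ * conjCore H q w c, d'⁆ ≠ 1 := by
    by_contra hall
    push Not at hall
    exact hno ⟨hwC, Subgroup.mem_centralizer_iff.2 fun d' hd' =>
      (commutatorElement_eq_one_iff_mul_comm.1 (hall d' hd')).symm⟩
  have hct : ∀ u ∈ C, ∀ v ∈ C, ⁅u, v⁆ ^ q = 1 := by
    intro u hu v hv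
    have hcenter : ∀ g : C, (g : T) ∈ Subgroup.centralizer (C : Set T) → g ∈ Subgroup.center C := fun g hg =>
      Subgroup.mem_center_iff.2 fun h => Subtype.ext (Subgroup.mem_centralizer_iff.1 hg h h.2)
    have hclC : ∀ g g' : C, ⁅g, g'⁆ ∈ Subgroup.center C := fun g g' => hcenter _ (hC.cls g.2 g'.2).2
    have h := commutator_pow hclC ⟨u, hu⟩ ⟨v, hv⟩ q
    rw [commutatorElement_eq_one_iff_mul_comm.2 (Subgroup.mem_center_iff.1 (hcenter _
      (hC.frat ⟨_, CfsgLib.PGroup.pow_mem_frattini (hT.to_subgroup C) _, rfl⟩)) _).symm] at h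
    exact (congrArg Subtype.val h).symm
  have hqK : (q : Fbar 2) ≠ 0 := fun h => hq2 <| by
    rw [CharP.cast_eq_zero_iff (Fbar 2) 2 q] at h
    exact ((Nat.prime_dvd_prime_iff_eq Nat.prime_two hq.out).1 h).symm
  set s := conjCore H q x with hs
  obtain ⟨P, a₀, ha₀, hτ, hstab, hφ, halt⟩ := exists_pairing (N := e) hq2 hT s
    (by rw [hs, ← map_pow, hxN, map_one]) C (fun u hu v hv => (hC.cls hu hv).2) hct
    (fun v hv => by rw [hs, ← map_pow]; exact zfix_fixes (top_mem_zfix D hx) hq2 hC hv)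
    (e := conjCore H q w) hqK (ρ.comp (pCore q H).subtype) (ρ x)
    (fun g => by
      show ρ x * ρ (g : H) = ρ ((conjCore H q x g : T) : H) * ρ x
      rw [conjCore_apply, ← map_mul, ← map_mul, inv_mul_cancel_right])
    (by rw [← map_pow, hxN, map_one])
    (by rw [← CfsgLib.HallHigman.sub_one_pow_pred (K := Fbar 2)]; exact D.deg x hx)
    hc hd' (fun h => hcd (Subtype.ext (D.inj (h.trans (map_one ρ).symm))))
  have hMstab : ∀ m ∈ zfix H, conjCore H q m ∈ P.stab := fun m hm =>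
    hstab _ fun v hv => zfix_fixes hm hq2 hC hv
  refine hφ ?_
  suffices h : c⁻¹ * conjCore H q w c ∈ P.rad from h.2 d' hd'
  have hz : s ^ 2 ^ e = conjCore H q y := (map_pow _ _ _).symm
  have hwz : conjCore H q w = ⁅s ^ 2 ^ e, conjCore H q β⁆ := by rw [hw, map_commutatorElement, hz]
  rw [hwz]
  rcases halt with htriv | ⟨-, hh, hidx⟩
  · -- the involution is trivial modulo the radical
    set z := s ^ 2 ^ e
    have hzs : z ∈ P.stab := hz ▸ hMstab _ (top_mem_zfix D hx)
    have hβs : conjCore H q β ∈ P.stab := hMstab _ (hM hβM)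
    have hfixall : ∀ v ∈ C, z ∈ P.fixMod v := fun v hv => ⟨hzs, Pairing.Cg.symm P (htriv v hv)⟩
    have h1 := Pairing.Cg.map P hβs ((inv_mem (hfixall _ (P.map_mem (conjCore H q β)⁻¹ hc)) : _ ∈ P.fixMod _).2)
    rw [MulAut.apply_inv_self] at h1
    have h2 := Pairing.Cg.trans P (Pairing.Cg.map P hzs h1) (hfixall c hc).2
    exact Pairing.Cg.symm P h2
  · -- the plane
    set h := e + 1 - a₀ with hhdef
    have hpow1 : 2 ^ a₀ * 2 ^ (h - 1) = 2 ^ e := by rw [← pow_add]; congr 1; omega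
    have hpow2 : 2 ^ a₀ * 2 ^ (h - 2) = 2 ^ (e - 1) := by rw [← pow_add]; congr 1; omega
    have hpow : 2 ^ a₀ * 2 ^ h = 2 ^ (e + 1) := by rw [← pow_add]; congr 1; omega
    set b' := (b * x) ^ 2 ^ a₀ * (x ^ 2 ^ a₀)⁻¹ with hb'
    have hbτ : conjCore H q b' * s ^ 2 ^ a₀ = conjCore H q ((b * x) ^ 2 ^ a₀) := by
      rw [hs, ← map_pow, ← map_mul, hb', inv_mul_cancel_right]
    have key := plane_comm_pairing (τ := s ^ 2 ^ a₀) (β₀ := conjCore H q b') hq2 hT P hh hτ
      (by rw [← pow_mul, hpow, hs, ← map_pow, hxN, map_one])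
      (fun v hv => by
        rw [← pow_mul, hpow1, hz]
        exact zfix_fixes (top_mem_zfix D hx) hq2 hC hv)
      (by rw [← pow_mul s, hpow1]; exact hidx)
      (A.map (conjCore H q)) (M.map (conjCore H q))
      (by rintro _ ⟨m, hm, rfl⟩; exact hMstab m (hM hm)) (Subgroup.map_mono hAM)
      (by rintro _ ⟨a, ha, rfl⟩; rw [← map_mul, hA2 a ha, map_one])
      (by rintro _ ⟨a, ha, rfl⟩ _ ⟨m, hm, rfl⟩; exact (hAc a ha m hm).map _)
      (by
        rintro _ ⟨a, ha, rfl⟩
        rw [← pow_mul, hpow1, hz]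
        exact (commute_elementary D hx (hAM.trans hM) hA2 hxA ha).map _)
      (by rintro _ ⟨m, hm, rfl⟩; exact ⟨m * m, hM2 m hm, map_mul _ _ _⟩)
      (by rintro _ ⟨m, hm, rfl⟩ _ ⟨m', hm', rfl⟩; exact ⟨_, hMc m hm m' hm', map_commutatorElement _ _ _⟩)
      (by
        rintro _ ⟨m, hm, rfl⟩
        exact ⟨_, conj_pow_mem hxM (2 ^ a₀) m hm, by rw [hs, ← map_pow, map_mul, map_mul, map_inv]⟩)
      (by
        rintro _ ⟨a, ha, rfl⟩
        refine ⟨(x ^ 2 ^ a₀)⁻¹ * a * x ^ 2 ^ a₀, ?_, by rw [hs, ← map_pow, map_mul, map_mul, map_inv]⟩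
        obtain ⟨l, hl⟩ : ∃ l, x ^ 2 ^ a₀ * x ^ l = 1 := by
          refine ⟨2 ^ (e + 1) - 2 ^ a₀, ?_⟩
          rw [← pow_add, Nat.add_sub_cancel' (Nat.pow_le_pow_right two_pos (by omega)), hxN]
        rw [inv_eq_of_mul_eq_one_right hl, ← inv_inv (x ^ 2 ^ a₀), inv_eq_of_mul_eq_one_right hl]
        exact conj_pow_mem hxA l a ha)
      ⟨b', hmemM _, rfl⟩
      (by rw [hbτ, ← map_pow, ← pow_mul, hpow, D.pow _ hbxEl, map_one]) hc
    have hb'eq : b' * x ^ 2 ^ a₀ = (b * x) ^ 2 ^ a₀ := by rw [hb', inv_mul_cancel_right]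
    simp only [hs, ← map_pow, ← map_inv, ← map_mul, hb'eq, ← pow_mul, hpow1, hpow2] at key
    rw [hz]
    exact key

end Degree

end CfsgLib.GrossTwo
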